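import Groth.Agent.L04.LC.CompletionDim
import Groth.Agent.L04.LC.AlgebraizationKill
import Groth.Agent.L04.LC.Change
import Groth.Agent.L04.LC.Nonvanish

/-!
# Depth conditions for algebraization of formal functions
-/

set_option autoImplicit false
set_option linter.style.haveILetI false
set_option backward.isDefEq.respectTransparency false
universe u

open CategoryTheory IsLocalRing PrimeSpectrum

attribute [local instance] HasDerivedCategory.standard

noncomputable section

namespace Groth.L04.Bootstrap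

open Groth.L29 Groth.L29.HomD Groth.L04.AnnihDual Groth.L04.CplDim

variable {A : Type u} [CommRing A] [IsNoetherianRing A] (I : Ideal A) (q : PrimeSpectrum A)

/-- The local ring. -/
abbrev Aq : Type u := Localization.AtPrime q.asIdeal

/-- The completion of the local ring along `I`. -/
abbrev Bq : Type u := AdicCompletion (I.map (algebraMap A (Aq q))) (Aq q)

theorem map_I_eq : (I.map (algebraMap A (Aq q))).map (algebraMap (Aq q) (Bq I q)) =
    I.map (algebraMap A (Bq I q)) := by
  rw [Ideal.map_map, ← IsScalarTower.algebraMap_eq A (Aq q) (Bq I q)]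

theorem isNoetherianRing_Bq : IsNoetherianRing (Bq I q) :=
  haveI : IsNoetherianRing (Aq q) := IsLocalization.isNoetherianRing q.asIdeal.primeCompl _ inferInstance
  Groth.L01.AdicNoeth.isNoetherianRing_adicCompletion _ (IsNoetherian.noetherian _)

theorem flat_Bq : Module.Flat (Aq q) (Bq I q) :=
  haveI : IsNoetherianRing (Aq q) := IsLocalization.isNoetherianRing q.asIdeal.primeCompl _ inferInstance
  inferInstance

/-- Maximal ideals of the completion lie over the closed point. -/
theorem maximal_comap_eq (hI : I ≤ q.asIdeal) (Q : Ideal (Bq I q)) [Q.IsMaximal] :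
    Q.comap (algebraMap (Aq q) (Bq I q)) = maximalIdeal (Aq q) ∧
      (maximalIdeal (Aq q)).map (algebraMap (Aq q) (Bq I q)) = Q := by
  haveI : IsNoetherianRing (Aq q) := IsLocalization.isNoetherianRing q.asIdeal.primeCompl _ inferInstance
  let J := I.map (algebraMap A (Aq q))
  have hJ : J.FG := IsNoetherian.noetherian J
  haveI : IsAdicComplete (J.map (algebraMap (Aq q) (Bq I q))) (Bq I q) :=
    AdicCompletion.isAdicComplete_self J hJ
  have hJQ : J.map (algebraMap (Aq q) (Bq I q)) ≤ Q :=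
    (IsAdicComplete.le_jacobson_bot _).trans (sInf_le ⟨bot_le, inferInstance⟩)
  have hQm : Q.comap (algebraMap (Aq q) (Bq I q)) ≤ maximalIdeal (Aq q) :=
    le_maximalIdeal (Ideal.comap_ne_top _ (Ideal.IsPrime.ne_top inferInstance))
  have h1 : Q.comap (algebraMap (Aq q) (Bq I q)) = maximalIdeal (Aq q) := by
    refine le_antisymm hQm fun x hx => ?_
    by_contra hxQ
    obtain ⟨y, z, hz, hyz⟩ := Ideal.IsMaximal.exists_inv (inferInstance : Q.IsMaximal) hxQ
    obtain ⟨y₀, hy₀⟩ := Ideal.Quotient.mk_surjective (AdicCompletion.evalOneₐ J y)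
    have hmem : algebraMap (Aq q) (Bq I q) y₀ - y ∈ Q := hJQ (by
      rw [← AdicCompletion.ker_evalOneₐ_eq_map J hJ, RingHom.mem_ker, map_sub, sub_eq_zero]
      exact ((AdicCompletion.evalOneₐ J).commutes y₀).trans hy₀)
    have h2 : 1 - y₀ * x ∈ Q.comap (algebraMap (Aq q) (Bq I q)) := by
      rw [Ideal.mem_comap, map_sub, map_one, map_mul]
      have h3 := Q.mul_mem_right (algebraMap (Aq q) (Bq I q) x) hmem
      have e : 1 - algebraMap (Aq q) (Bq I q) y₀ * algebraMap (Aq q) (Bq I q) x =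
          z - (algebraMap (Aq q) (Bq I q) y₀ - y) * algebraMap (Aq q) (Bq I q) x := by
        linear_combination -hyz
      rw [e]
      exact Q.sub_mem hz h3
    refine (maximalIdeal.isMaximal (Aq q)).ne_top ((Ideal.eq_top_iff_one _).2 ?_)
    have h4 := Ideal.add_mem _ (hQm h2) (Ideal.mul_mem_left _ y₀ hx)
    simpa using h4
  refine ⟨h1, ?_⟩
  rw [← h1]
  exact map_comap_eq J Q hJQ

theorem isLocalRing_Bq (hI : I ≤ q.asIdeal) [Nontrivial (Bq I q)] : IsLocalRing (Bq I q) := by
  obtain ⟨Q, hQ⟩ := Ideal.exists_maximal (Bq I q)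
  refine IsLocalRing.of_unique_max_ideal ⟨Q, hQ, fun Q' hQ' => ?_⟩
  rw [← (maximal_comap_eq I q hI Q).2, ← (maximal_comap_eq I q hI Q').2]

variable (M : Type u) [AddCommGroup M] [Module A M] [Module.Finite A M]

/-- Depth of the completed localization. -/
theorem depth_eq (p' : PrimeSpectrum (Bq I q)) :
    LocCoh.depth (Localization.AtPrime p'.asIdeal) (LocalizedModule p'.asIdeal.primeCompl
        (AdicCompletion (I.map (algebraMap A (Aq q))) (LocalizedModule q.asIdeal.primeCompl M))) =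
      AlgKill.dep M (img (A := A) (img (A := Aq q) p')) +
        (haveI := isNoetherianRing_Bq I q; fibDepth (Aq q) p') := by
  haveI : IsNoetherianRing (Aq q) := IsLocalization.isNoetherianRing q.asIdeal.primeCompl _ inferInstance
  haveI : Module.Finite (Aq q) (LocalizedModule q.asIdeal.primeCompl M) :=
    Module.Finite.of_isLocalizedModule q.asIdeal.primeCompl (LocalizedModule.mkLinearMap q.asIdeal.primeCompl M)
  rw [depth_completion (I.map (algebraMap A (Aq q))) (LocalizedModule q.asIdeal.primeCompl M) p']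
  congr 1
  obtain ⟨E, -⟩ := FibStalk.exists_semi_localized q.asIdeal M (img (A := Aq q) p').asIdeal
  exact E.depth_eq.symm

variable {I q M}

/-- A prime outside `V(I)` with no intermediate prime in `V(I) ∖ T` has large depth. -/
theorem lt_dep_of_six {T : Set (PrimeSpectrum A)} {s : ℕ}
    (h6 : ∀ q ∈ T, ∀ p' : PrimeSpectrum (Bq I q), ¬ I.map (algebraMap A (Bq I q)) ≤ p'.asIdeal →
      (∀ q' : PrimeSpectrum (Bq I q), p' ≤ q' → I.map (algebraMap A (Bq I q)) ≤ q'.asIdeal → q'.asIdeal.IsMaximal) →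
        (s : ℕ∞) < LocCoh.depth (Localization.AtPrime p'.asIdeal) (LocalizedModule p'.asIdeal.primeCompl
          (AdicCompletion (I.map (algebraMap A (Aq q))) (LocalizedModule q.asIdeal.primeCompl M))))
    {p q : PrimeSpectrum A} (hpq : p ≤ q) (hp : ¬ I ≤ p.asIdeal) (hIq : I ≤ q.asIdeal)
    (hr : ∀ r : PrimeSpectrum A, p ≤ r → r ≤ q → I ≤ r.asIdeal → r ∈ T) :
    (s : ℕ∞) < AlgKill.dep M p := by
  obtain ⟨r₀, hr₀, hr₀q⟩ := Ideal.exists_minimalPrimes_le (I := p.asIdeal ⊔ I) (J := q.asIdeal) (sup_le hpq hIq)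
  obtain ⟨r, rfl⟩ : ∃ r : PrimeSpectrum A, r.asIdeal = r₀ := ⟨⟨r₀, hr₀.1.1⟩, rfl⟩
  have hIr : I ≤ r.asIdeal := le_sup_right.trans hr₀.1.2
  have hpr : p ≤ r := (le_sup_left.trans hr₀.1.2 : p.asIdeal ≤ r.asIdeal)
  haveI : IsNoetherianRing (Aq r) := IsLocalization.isNoetherianRing r.asIdeal.primeCompl _ inferInstance
  haveI := isNoetherianRing_Bq I r
  haveI := flat_Bq I r
  let e := IsLocalization.AtPrime.primeSpectrumOrderIso (Aq r) r.asIdeal
  let P : PrimeSpectrum (Aq r) := e.symm ⟨p, hpr⟩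
  have hP : img (A := A) P = p := congrArg Subtype.val (e.apply_symm_apply ⟨p, hpr⟩)
  have hnt : Nontrivial (Bq I r) := by
    refine (AdicCompletion.evalOneₐ (I.map (algebraMap A (Aq r)))).toRingHom|> fun f => @RingHom.domain_nontrivial _ _ _ _ f ?_
    exact Ideal.Quotient.nontrivial_iff.2 (ne_top_of_le_ne_top (maximalIdeal.isMaximal _).ne_top (by
      rw [← IsLocalization.AtPrime.map_eq_maximalIdeal r.asIdeal (Aq r)]
      exact Ideal.map_mono hIr))
  obtain ⟨Qm, hQm⟩ := Ideal.exists_maximal (Bq I r)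
  haveI : Qm.LiesOver (maximalIdeal (Aq r)) := ⟨(maximal_comap_eq I r hIr Qm).1.symm⟩
  obtain ⟨P₁, -, hP₁, hP₁o⟩ := Ideal.exists_ideal_le_liesOver_of_le (p := P.asIdeal) (q := maximalIdeal (Aq r))
    Qm (le_maximalIdeal P.isPrime.ne_top)
  obtain ⟨p₀, hp₀, hp₀P⟩ := Ideal.exists_minimalPrimes_le
    (I := P.asIdeal.map (algebraMap (Aq r) (Bq I r))) (J := P₁)
    (Ideal.map_le_iff_le_comap.2 hP₁o.over.le)
  let p' : PrimeSpectrum (Bq I r) := ⟨p₀, hp₀.1.1⟩
  have himg : img (A := Aq r) p' = P := PrimeSpectrum.ext (le_antisymm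
    ((Ideal.comap_mono hp₀P).trans hP₁o.over.ge) (Ideal.map_le_iff_le_comap.1 hp₀.1.2))
  have h := h6 r (hr r hpr hr₀q hIr) p' (fun h => hp ?_) fun Q hQ hIQ => ?_
  · rw [depth_eq I r M p', himg, hP, fibDepth_eq_zero p' (by rw [himg]; exact hp₀), add_zero] at h
    exact h
  · rw [← map_I_eq I r, Ideal.map_le_iff_le_comap] at h
    rw [show p'.asIdeal.comap (algebraMap (Aq r) (Bq I r)) = P.asIdeal from congrArg PrimeSpectrum.asIdeal himg,
      Ideal.map_le_iff_le_comap] at h
    rwa [show P.asIdeal.comap (algebraMap A (Aq r)) = p.asIdeal from congrArg PrimeSpectrum.asIdeal hP] at h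
  · rw [← map_I_eq I r] at hIQ
    have hQc := map_comap_eq (I.map (algebraMap A (Aq r))) Q.asIdeal hIQ
    have hPQ : P ≤ img (A := Aq r) Q := himg ▸ (Ideal.comap_mono hQ)
    have hpQ : p.asIdeal ⊔ I ≤ (img (A := A) (img (A := Aq r) Q)).asIdeal :=
      sup_le (hP ▸ (Ideal.comap_mono hPQ : (img (A := A) P).asIdeal ≤ _))
        (Ideal.map_le_iff_le_comap.1 (Ideal.map_le_iff_le_comap.1 hIQ))
    have hle : (img (A := A) (img (A := Aq r) Q)).asIdeal ≤ r.asIdeal := (e (img (A := Aq r) Q)).2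
    have heq : e (img (A := Aq r) Q) = e (closedPoint (Aq r)) := by
      refine Subtype.ext (PrimeSpectrum.ext ?_)
      exact (le_antisymm hle (hr₀.2 ⟨inferInstance, hpQ⟩ hle)).trans
        (IsLocalization.AtPrime.comap_maximalIdeal (Aq r) r.asIdeal).symm
    have hmax : Q.asIdeal.comap (algebraMap (Aq r) (Bq I r)) = maximalIdeal (Aq r) :=
      congrArg PrimeSpectrum.asIdeal (e.injective heq)
    rw [← hQc, hmax, (maximal_comap_eq I r hIr Qm).2]
    exact hQm

/-- Depth of the completed localization through the dimension functions. -/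
theorem exists_depth_eq_dim {ω : Dual.D A} (hω : Dual.IsDualizing A ω) (hIq : I ≤ q.asIdeal)
    (p' : PrimeSpectrum (Bq I q)) :
    ∃ f e : ℕ, LocCoh.depth (Localization.AtPrime p'.asIdeal) (LocalizedModule p'.asIdeal.primeCompl
        (AdicCompletion (I.map (algebraMap A (Aq q))) (LocalizedModule q.asIdeal.primeCompl M))) =
        AlgKill.dep M (img (A := A) (img (A := Aq q) p')) + f ∧
      ringKrullDim (Bq I q ⧸ p'.asIdeal) = ((e : ℕ) : WithBot ℕ∞) ∧
      (f : ℤ) = dimFun hω (img (A := A) (img (A := Aq q) p')) - dimFun hω q - e := by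
  haveI : IsNoetherianRing (Aq q) := IsLocalization.isNoetherianRing q.asIdeal.primeCompl _ inferInstance
  haveI := isNoetherianRing_Bq I q
  haveI := flat_Bq I q
  haveI : Module.Flat A (Aq q) := IsLocalization.flat _ q.asIdeal.primeCompl
  haveI : Nontrivial (Bq I q) := ⟨0, 1, fun h01 => p'.isPrime.ne_top
    ((Ideal.eq_top_iff_one _).2 (h01 ▸ p'.asIdeal.zero_mem))⟩
  haveI := isLocalRing_Bq I q hIq
  have hR := FlatBC.isDualizing_L_localization (B := Aq q) q.asIdeal.primeCompl hω
  have hB := CplDim.isDualizing_completion (I.map (algebraMap A (Aq q))) hR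
  obtain ⟨f, hf, hf'⟩ := fibDepth_eq hR hB p'
  have hloc : ∀ Q : PrimeSpectrum (Aq q), dimFun hR Q = dimFun hω (img (A := A) Q) := fun Q => by
    refine dimFun_eq_of_minimal hω hR Q ?_
    rw [show (img (A := A) Q).asIdeal.map (algebraMap A (Aq q)) = Q.asIdeal from
      IsLocalization.map_comap q.asIdeal.primeCompl (Aq q) Q.asIdeal,
      Ideal.minimalPrimes_eq_subsingleton_self]
    exact rfl
  let m' : PrimeSpectrum (Bq I q) := closedPoint (Bq I q)
  have hm' : dimFun hB m' = dimFun hω q := by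
    rw [dimFun_eq_of_minimal hR hB m' (by
      rw [show (img (A := Aq q) m').asIdeal = maximalIdeal (Aq q) from
        (maximal_comap_eq I q hIq (maximalIdeal (Bq I q))).1,
        (maximal_comap_eq I q hIq (maximalIdeal (Bq I q))).2, Ideal.minimalPrimes_eq_subsingleton_self]
      exact rfl), hloc]
    congr 1
    refine PrimeSpectrum.ext ?_
    change Ideal.comap (algebraMap A (Aq q)) (img (A := Aq q) m').asIdeal = q.asIdeal
    rw [show (img (A := Aq q) m').asIdeal = maximalIdeal (Aq q) from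
      (maximal_comap_eq I q hIq (maximalIdeal (Bq I q))).1]
    exact IsLocalization.AtPrime.comap_maximalIdeal (Aq q) q.asIdeal
  have hle' : p' ≤ m' := le_maximalIdeal p'.isPrime.ne_top
  have hdim : ringKrullDim (Bq I q ⧸ p'.asIdeal) =
      (((dimFun hB p' - dimFun hB m').toNat : ℕ) : WithBot ℕ∞) := by
    rw [ringKrullDim_quotient, ← krullDim_Icc hB p' m' hle']
    have hset : zeroLocus (p'.asIdeal : Set (Bq I q)) = Set.Icc p' m' := Set.ext fun Q =>
      ⟨fun hQ => ⟨hQ, le_maximalIdeal Q.isPrime.ne_top⟩, fun hQ => hQ.1⟩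
    rw [hset]
  refine ⟨f, _, by rw [depth_eq I q M p', hf], hdim, ?_⟩
  rw [hloc] at hf'
  have hdB := (dimFun_strictAnti hB).antitone hle'
  lia

/-- The sixth condition from the depth inequalities along `V(𝔞)`. -/
theorem six_of_big {ω : Dual.D A} (hω : Dual.IsDualizing A ω) {d : ℕ} (hcd : LocCoh.CdLE A I d) {s : ℕ}
    (hIq : I ≤ q.asIdeal)
    (hc : ∀ p : PrimeSpectrum A, p ≤ q → ¬ I ≤ p.asIdeal → (s : ℕ∞) < AlgKill.dep M p ∨
      ∀ m : ℕ, AlgKill.dep M p = m → ((d + s : ℕ) : ℤ) < m + (dimFun hω p - dimFun hω q))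
    (p' : PrimeSpectrum (Bq I q)) (hp' : ¬ I.map (algebraMap A (Bq I q)) ≤ p'.asIdeal)
    (hmax : ∀ q' : PrimeSpectrum (Bq I q), p' ≤ q' → I.map (algebraMap A (Bq I q)) ≤ q'.asIdeal →
      q'.asIdeal.IsMaximal) :
    (s : ℕ∞) < LocCoh.depth (Localization.AtPrime p'.asIdeal) (LocalizedModule p'.asIdeal.primeCompl
      (AdicCompletion (I.map (algebraMap A (Aq q))) (LocalizedModule q.asIdeal.primeCompl M))) := by
  haveI : IsNoetherianRing (Aq q) := IsLocalization.isNoetherianRing q.asIdeal.primeCompl _ inferInstance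
  haveI := isNoetherianRing_Bq I q
  haveI := flat_Bq I q
  haveI : Module.Flat A (Aq q) := IsLocalization.flat _ q.asIdeal.primeCompl
  haveI : Nontrivial (Bq I q) := ⟨0, 1, fun h01 => p'.isPrime.ne_top
    ((Ideal.eq_top_iff_one _).2 (h01 ▸ p'.asIdeal.zero_mem))⟩
  haveI := isLocalRing_Bq I q hIq
  let P := img (A := Aq q) p'
  let p := img (A := A) P
  have hpq : p ≤ q := (IsLocalization.AtPrime.primeSpectrumOrderIso (Aq q) q.asIdeal P).2
  have hpI : ¬ I ≤ p.asIdeal := fun h => hp' (by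
    rw [← map_I_eq I q, Ideal.map_le_iff_le_comap, Ideal.map_le_iff_le_comap]
    exact h)
  obtain ⟨f, e, hd, hdim, hf'⟩ := exists_depth_eq_dim (M := M) hω hIq p'
  rw [hd]
  rcases hc p hpq hpI with h | h
  · exact h.trans_le le_self_add
  have hbound : e ≤ d := by
    by_contra hlt
    have hrad : (p'.asIdeal ⊔ I.map (algebraMap A (Bq I q))).radical = maximalIdeal (Bq I q) := by
      refine le_antisymm ((maximalIdeal.isMaximal _).isPrime.radical_le_iff.2 (sup_le (le_maximalIdeal p'.isPrime.ne_top) ?_)) ?_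
      · rw [← map_I_eq I q, ← (maximal_comap_eq I q hIq (maximalIdeal (Bq I q))).2]
        refine Ideal.map_mono ?_
        rw [← IsLocalization.AtPrime.map_eq_maximalIdeal q.asIdeal (Aq q)]
        exact Ideal.map_mono hIq
      · rw [Ideal.radical_eq_sInf]
        refine le_sInf fun Q hQ => ?_
        haveI := hQ.2
        exact (eq_maximalIdeal (hmax ⟨Q, hQ.2⟩ (le_sup_left.trans hQ.1) (le_sup_right.trans hQ.1))).ge
    refine Groth.L04.LC.not_cdLE_of_radical_sup (I.map (algebraMap A (Bq I q))) p'.asIdeal hrad _ hdim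
      (by omega) fun N _ _ i hi => ?_
    exact Groth.L04.LC.cdLE_map (R' := Bq I q) I hcd N i (by omega)
  cases hm : AlgKill.dep M p using ENat.recTopCoe with
  | top => rw [top_add]; exact ENat.natCast_lt_top s
  | coe m =>
    have h' := h m hm
    exact_mod_cast (show s < m + f by push_cast at h'; lia)

end Groth.L04.Bootstrap
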