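import Groth.Agent.L04.Formal.Bootstrap
import Groth.Agent.L04.LC.ExtLoc
import Groth.Agent.L04.Canon.HLVGlobal

/-!
# Vanishing of `H^c_I(E)_q` in the top dimension
-/

set_option autoImplicit false
set_option linter.style.haveILetI false
set_option backward.isDefEq.respectTransparency false
universe u

open CategoryTheory IsLocalRing

attribute [local instance] HasDerivedCategory.standard

noncomputable section

namespace Groth.L04.CplTop

open Groth.L29 Groth.L29.HomD Groth.L04.AnnihDual Groth.L04.CplDim Groth.L04.Bootstrap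

variable {A : Type u} [CommRing A]

/-- The localization at `q` vanishes. -/
def Vq (q : PrimeSpectrum A) (X : Type*) [AddCommGroup X] [Module A X] : Prop :=
  ∀ x : X, ∃ t : A, t ∉ q.asIdeal ∧ t • x = 0

variable [IsNoetherianRing A] (I : Ideal A) (q : PrimeSpectrum A)

/-- Elements of the completion are congruent to elements of the ring. -/
theorem exists_sub_algebraMap_mem {R : Type u} [CommRing R] [IsLocalRing R] [IsNoetherianRing R] (N : ℕ)
    (y : AdicCompletion (maximalIdeal R) R) :
    ∃ r : R, y - algebraMap R (AdicCompletion (maximalIdeal R) R) r ∈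
      maximalIdeal (AdicCompletion (maximalIdeal R) R) ^ N := by
  let C := AdicCompletion (maximalIdeal R) R
  obtain ⟨r, hr⟩ := Ideal.Quotient.mk_surjective (AdicCompletion.evalₐ (maximalIdeal R) N y)
  refine ⟨r, ?_⟩
  have hev : AdicCompletion.eval (maximalIdeal R) R N (y - algebraMap R C r) = 0 := by
    rw [← AdicCompletion.factor_evalₐ_eq_eval (maximalIdeal R) _ (by simp), map_sub, AlgHom.commutes, ← hr]
    exact (congrArg _ (sub_self _)).trans (map_zero _)
  have hker : y - algebraMap R C r ∈ LinearMap.ker (AdicCompletion.eval (maximalIdeal R) R N) := hev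
  rw [← AdicCompletion.pow_smul_top_eq_ker_eval (IsNoetherian.noetherian _), Ideal.smul_top_eq_map,
    Submodule.restrictScalars_mem, Ideal.map_pow, ← AdicCompletion.maximalIdeal_eq_map] at hker
  exact hker

/-- The map from the completion along `I` to a complete local ring under `A_q`. -/
theorem exists_lift (hIq : I ≤ q.asIdeal) {C : Type u} [CommRing C] [IsLocalRing C]
    [IsAdicComplete (maximalIdeal C) C] (ι : Aq q →+* C) [IsLocalHom ι] :
    ∃ f : Bq I q →+* C, f.comp (algebraMap (Aq q) (Bq I q)) = ι := by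
  let J := I.map (algebraMap A (Aq q))
  have hJm : J ≤ maximalIdeal (Aq q) := by
    rw [← IsLocalization.AtPrime.map_eq_maximalIdeal q.asIdeal (Aq q)]
    exact Ideal.map_mono hIq
  have hJn : ∀ n : ℕ, J ^ n ≤ Ideal.comap ι (maximalIdeal C ^ n) := fun n => by
    rw [← Ideal.map_le_iff_le_comap, Ideal.map_pow]
    refine Ideal.pow_right_mono (Ideal.map_le_iff_le_comap.2 fun x hx => ?_) n
    exact map_nonunit ι x (hJm hx)
  let F : ∀ n : ℕ, Bq I q →+* C ⧸ maximalIdeal C ^ n := fun n =>
    (Ideal.quotientMap (maximalIdeal C ^ n) ι (hJn n)).comp (AdicCompletion.evalₐ J n).toRingHom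
  have hF : ∀ {m n : ℕ} (hle : m ≤ n), (Ideal.Quotient.factorPow (maximalIdeal C) hle).comp (F n) = F m := by
    intro m n hle
    refine RingHom.ext fun x => ?_
    obtain ⟨x, rfl⟩ := AdicCompletion.mk_surjective J (Aq q) x
    simp only [F, RingHom.comp_apply, AlgHom.toRingHom_eq_coe, RingHom.coe_coe, Ideal.Quotient.factorPow]
    have e : ∀ k, AdicCompletion.evalₐ J k (AdicCompletion.mk J (Aq q) x) = Ideal.Quotient.mk _ (x.val k) :=
      fun k => AdicCompletion.evalₐ_mk J k x
    rw [e, e, Ideal.quotientMap_mk, Ideal.quotientMap_mk, Ideal.Quotient.factor_mk]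
    rw [Ideal.Quotient.mk_eq_mk_iff_sub_mem, ← map_sub]
    refine hJn m ?_
    have h := SModEq.sub_mem.1 (x.2 hle).symm
    simpa [Ideal.smul_eq_mul] using h
  refine ⟨IsAdicComplete.liftRingHom (maximalIdeal C) F hF, RingHom.ext fun a => ?_⟩
  refine (IsHausdorff.eq_iff_smodEq (I := maximalIdeal C)).2 fun n => ?_
  rw [Ideal.smul_eq_mul, Ideal.mul_top, SModEq.sub_mem, ← Ideal.Quotient.mk_eq_mk_iff_sub_mem,
    RingHom.comp_apply, IsAdicComplete.mk_liftRingHom]
  simp only [F, RingHom.comp_apply, AlgHom.toRingHom_eq_coe, RingHom.coe_coe, AlgHom.commutes]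
  exact Ideal.quotientMap_mk

variable (M : Type u) [AddCommGroup M] [Module A M] [Module.Finite A M]

/-- A component of top dimension meeting `V(I)` in the closed point gives depth above `s`. -/
theorem exists_prime_completion (hIq : I ≤ q.asIdeal) (a : Ideal (Aq q)) [IsLocalRing (Aq q ⧸ a)]
    (p'' : Ideal (AdicCompletion (maximalIdeal (Aq q ⧸ a)) (Aq q ⧸ a))) (hp'' : p''.IsPrime) (c : ℕ)
    (hc : 0 < c)
    (hdim : ringKrullDim (AdicCompletion (maximalIdeal (Aq q ⧸ a)) (Aq q ⧸ a) ⧸ p'') = c)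
    (hfin : ringKrullDim (AdicCompletion (maximalIdeal (Aq q ⧸ a)) (Aq q ⧸ a) ⧸
      ((I.map (algebraMap A (Aq q))).map ((algebraMap (Aq q ⧸ a) (AdicCompletion (maximalIdeal (Aq q ⧸ a))
        (Aq q ⧸ a))).comp (Ideal.Quotient.mk a)) ⊔ p'')) < 1) :
    ∃ p' : PrimeSpectrum (Bq I q), ¬ I.map (algebraMap A (Bq I q)) ≤ p'.asIdeal ∧
      (∀ q' : PrimeSpectrum (Bq I q), p' ≤ q' → I.map (algebraMap A (Bq I q)) ≤ q'.asIdeal → q'.asIdeal.IsMaximal) ∧
      ringKrullDim (Bq I q ⧸ p'.asIdeal) = c ∧ a ≤ (img (A := Aq q) p').asIdeal := by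
  haveI : IsNoetherianRing (Aq q) := IsLocalization.isNoetherianRing q.asIdeal.primeCompl _ inferInstance
  let R := Aq q ⧸ a
  let C := AdicCompletion (maximalIdeal R) R
  haveI : IsNoetherianRing C := Groth.L01.AnalUnram.isNoetherianRing_completion R
  haveI : IsAdicComplete (maximalIdeal C) C := AdicCompletion.isAdicComplete_of_fg (IsNoetherian.noetherian _)
  haveI : IsLocalHom (Ideal.Quotient.mk a) :=
    IsLocalHom.of_surjective _ Ideal.Quotient.mk_surjective
  let ι : Aq q →+* C := (algebraMap R C).comp (Ideal.Quotient.mk a)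
  haveI : IsLocalHom ι := RingHom.isLocalHom_comp _ _
  obtain ⟨f, hf⟩ := exists_lift I q hIq ι
  let J := I.map (algebraMap A (Aq q))
  let W := C ⧸ p''
  haveI : Nontrivial W := Ideal.Quotient.nontrivial_iff.2 hp''.ne_top
  haveI : IsLocalRing W := .of_surjective' (Ideal.Quotient.mk p'') Ideal.Quotient.mk_surjective
  let F : Bq I q →+* W := (Ideal.Quotient.mk p'').comp f
  set K := J.map ι ⊔ p'' with hK
  have hKtop : K ≠ ⊤ := by
    refine ne_top_of_le_ne_top (maximalIdeal.isMaximal C).ne_top (sup_le ?_ (le_maximalIdeal hp''.ne_top))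
    refine Ideal.map_le_iff_le_comap.2 fun x hx => map_nonunit ι x ?_
    have : J ≤ maximalIdeal (Aq q) := by
      rw [← IsLocalization.AtPrime.map_eq_maximalIdeal q.asIdeal (Aq q)]
      exact Ideal.map_mono hIq
    exact this hx
  have hKrad : maximalIdeal C ≤ K.radical := by
    rw [Ideal.radical_eq_sInf]
    refine le_sInf fun Q hQ => ?_
    haveI := hQ.2
    by_contra hne
    have hlt : (⟨Q, hQ.2⟩ : PrimeSpectrum C) < closedPoint C :=
      lt_of_le_of_ne (le_maximalIdeal hQ.2.ne_top) fun h => hne (congrArg PrimeSpectrum.asIdeal h).ge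
    let x₀ : PrimeSpectrum.zeroLocus (K : Set C) := ⟨⟨Q, hQ.2⟩, hQ.1⟩
    let x₁ : PrimeSpectrum.zeroLocus (K : Set C) :=
      ⟨closedPoint C, fun x hx => le_maximalIdeal hQ.2.ne_top (hQ.1 hx)⟩
    rw [ringKrullDim_quotient] at hfin
    have h1 : ((1 : ℕ) : WithBot ℕ∞) ≤ Order.krullDim (PrimeSpectrum.zeroLocus (K : Set C)) :=
      Order.LTSeries.length_le_krullDim ((RelSeries.singleton _ x₀).snoc x₁ hlt)
    exact absurd (lt_of_lt_of_le hfin h1) (lt_irrefl _)
  obtain ⟨N, hN⟩ := K.exists_radical_pow_le_of_fg (IsNoetherian.noetherian _)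
  have hapx : ∀ y : C, ∃ b : Aq q, y - ι b ∈ K := fun y => by
    obtain ⟨r, hker⟩ := exists_sub_algebraMap_mem N y
    obtain ⟨b, hb⟩ := Ideal.Quotient.mk_surjective r
    refine ⟨b, hN (Ideal.pow_right_mono hKrad N ?_)⟩
    rwa [show ι b = algebraMap R C r from congrArg (algebraMap R C) hb]
  have hmap : (J.map (algebraMap (Aq q) (Bq I q))).map F = J.map ((Ideal.Quotient.mk p'').comp ι) := by
    rw [Ideal.map_map]
    congr 1
    rw [← hf]
    rfl
  have hJW : J.map ((Ideal.Quotient.mk p'').comp ι) ≠ ⊤ := by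
    rw [← Ideal.map_map]
    intro h
    have h1 := congrArg (Ideal.comap (Ideal.Quotient.mk p'')) h
    rw [Ideal.comap_map_of_surjective _ Ideal.Quotient.mk_surjective, ← RingHom.ker_eq_comap_bot,
      Ideal.mk_ker, Ideal.comap_top] at h1
    exact hKtop h1
  haveI : IsAdicComplete (J.map (algebraMap (Aq q) (Bq I q))) (Bq I q) :=
    AdicCompletion.isAdicComplete_self J (IsNoetherian.noetherian J)
  haveI : IsHausdorff ((J.map (algebraMap (Aq q) (Bq I q))).map F) W :=
    IsHausdorff.of_isLocalRing _ W (hmap ▸ hJW)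
  have hsurj : Function.Surjective F := by
    refine surjective_of_mk_map_comp_surjective (I := J.map (algebraMap (Aq q) (Bq I q))) F fun w => ?_
    obtain ⟨w, rfl⟩ := Ideal.Quotient.mk_surjective w
    obtain ⟨y, rfl⟩ := Ideal.Quotient.mk_surjective w
    obtain ⟨b, hb⟩ := hapx y
    refine ⟨algebraMap (Aq q) (Bq I q) b, ?_⟩
    rw [RingHom.comp_apply, Ideal.Quotient.mk_eq_mk_iff_sub_mem, hmap]
    have hFb : F (algebraMap (Aq q) (Bq I q) b) = Ideal.Quotient.mk p'' (ι b) :=
      congrArg (Ideal.Quotient.mk p'') (RingHom.congr_fun hf b)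
    rw [hFb, ← map_sub, ← Ideal.map_map, ← Ideal.mem_comap,
      Ideal.comap_map_of_surjective _ Ideal.Quotient.mk_surjective, ← RingHom.ker_eq_comap_bot, Ideal.mk_ker,
      ← neg_sub]
    exact Ideal.neg_mem_iff _ |>.2 hb
  haveI : IsDomain W := Ideal.Quotient.isDomain p''
  let p' : PrimeSpectrum (Bq I q) := ⟨RingHom.ker F, RingHom.ker_isPrime F⟩
  have he : ringKrullDim (Bq I q ⧸ p'.asIdeal) = c :=
    (ringKrullDim_eq_of_ringEquiv (RingHom.quotientKerEquivOfSurjective hsurj)).trans hdim
  refine ⟨p', fun hle => ?_, fun Q hQ hIQ => ?_, he, fun x hx => ?_⟩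
  · rw [← map_I_eq I q] at hle
    have h0 : (J.map (algebraMap (Aq q) (Bq I q))).map F = ⊥ := (Ideal.map_eq_bot_iff_le_ker F).2 hle
    rw [hmap, ← Ideal.map_map, Ideal.map_eq_bot_iff_le_ker, Ideal.mk_ker] at h0
    have hKp : K = p'' := sup_eq_right.2 h0
    have h1 : ringKrullDim (C ⧸ p'') < 1 := by rw [← hKp]; exact hfin
    rw [hdim] at h1
    exact absurd (show c < 1 by exact_mod_cast h1) (by omega)
  · have hker : RingHom.ker F ≤ Q.asIdeal := hQ
    have hQW : (Q.asIdeal.map F).IsPrime := Ideal.map_isPrime_of_surjective hsurj hker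
    have hcom : (Q.asIdeal.map F).comap F = Q.asIdeal := by
      rw [Ideal.comap_map_of_surjective F hsurj, ← RingHom.ker_eq_comap_bot]
      exact sup_eq_left.2 hker
    let QC := (Q.asIdeal.map F).comap (Ideal.Quotient.mk p'')
    have hKQ : K ≤ QC := by
      refine sup_le ?_ ?_
      · rw [← Ideal.map_le_iff_le_comap, Ideal.map_map, ← hmap]
        rw [← map_I_eq I q] at hIQ
        exact Ideal.map_mono hIQ
      · conv_lhs => rw [← Ideal.mk_ker (I := p'')]
        exact Ideal.comap_mono bot_le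
    haveI : QC.IsPrime := inferInstance
    have hQC : QC = maximalIdeal C := le_antisymm (le_maximalIdeal (Ideal.IsPrime.ne_top inferInstance))
      (hKrad.trans ((Ideal.IsPrime.radical_le_iff inferInstance).2 hKQ))
    have hQm : (Q.asIdeal.map F).IsMaximal := by
      rw [← Ideal.map_comap_of_surjective _ Ideal.Quotient.mk_surjective (Q.asIdeal.map F)]
      change (Ideal.map _ QC).IsMaximal
      rw [hQC]
      exact (Ideal.map_eq_top_or_isMaximal_of_surjective _ Ideal.Quotient.mk_surjective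
        (maximalIdeal.isMaximal C)).resolve_left (by
          rw [← hQC, Ideal.map_comap_of_surjective _ Ideal.Quotient.mk_surjective]
          exact hQW.ne_top)
    rw [← hcom]
    exact Ideal.comap_isMaximal_of_surjective F hsurj
  · change F (algebraMap (Aq q) (Bq I q) x) = 0
    refine (congrArg (Ideal.Quotient.mk p'') (RingHom.congr_fun hf x)).trans ?_
    change Ideal.Quotient.mk p'' (algebraMap R C (Ideal.Quotient.mk a x)) = 0
    rw [Ideal.Quotient.eq_zero_iff_mem.2 hx, map_zero, map_zero]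

variable {I q M}

/-- The key vanishing. -/
theorem vq_H {ω : Dual.D A} (hω : Dual.IsDualizing A ω) {s : ℕ} (hIq : I ≤ q.asIdeal)
    (h6 : ∀ p' : PrimeSpectrum (Bq I q), ¬ I.map (algebraMap A (Bq I q)) ≤ p'.asIdeal →
      (∀ q' : PrimeSpectrum (Bq I q), p' ≤ q' → I.map (algebraMap A (Bq I q)) ≤ q'.asIdeal → q'.asIdeal.IsMaximal) →
        (s : ℕ∞) < LocCoh.depth (Localization.AtPrime p'.asIdeal) (LocalizedModule p'.asIdeal.primeCompl
          (AdicCompletion (I.map (algebraMap A (Aq q))) (LocalizedModule q.asIdeal.primeCompl M))))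
    (E : Type u) [AddCommGroup E] [Module A E] [Module.Finite A E] (c : ℕ) (hc : 0 < c)
    (hE : ∀ P ∈ Module.support A E, P ≤ q → ¬ I ≤ P.asIdeal →
      dimFun hω P - dimFun hω q ≤ c ∧ (dimFun hω P - dimFun hω q = c → AlgKill.dep M P ≤ s)) :
    Vq q (LocCoh.H I c E) := by
  let S := q.asIdeal.primeCompl
  let B := Aq q
  haveI : IsNoetherianRing B := IsLocalization.isNoetherianRing S B inferInstance
  let J := I.map (algebraMap A B)
  let X := LocalizedModule S E
  haveI : Module.Finite B X := Module.Finite.of_isLocalizedModule S (LocalizedModule.mkLinearMap S E)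
  suffices hsub : Subsingleton (LocCoh.H J c X) by
    intro x
    obtain ⟨e⟩ := Groth.L04.LC.nonempty_localizedModule_H_equiv I S c E
    haveI := e.toEquiv.subsingleton
    obtain ⟨⟨t, ht⟩, htx⟩ := (IsLocalizedModule.eq_zero_iff S (LocalizedModule.mkLinearMap S (LocCoh.H I c E))).1
      (Subsingleton.elim (LocalizedModule.mkLinearMap S (LocCoh.H I c E) x) 0)
    exact ⟨t, ht, htx⟩
  let Y := X ⧸ DRing.torsionSub J X
  suffices hY : Subsingleton (LocCoh.H J c Y) from
    (Equiv.ofBijective _ (Groth.L04.LC.H_map_mkQ_torsionSub_bijective J X hc)).subsingleton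
  rcases subsingleton_or_nontrivial Y with hY0 | hY0
  · exact Groth.L04.LC.subsingleton_H_of_supportDim_lt J Y c (by
      rw [(Module.supportDim_eq_bot_iff_subsingleton B Y).2 hY0]; exact WithBot.bot_lt_coe _)
  let a := Module.annihilator B Y
  have ha : a ≠ ⊤ := fun h => not_subsingleton Y (Module.annihilator_eq_top_iff.1 h)
  let R := B ⧸ a
  haveI : Nontrivial R := Ideal.Quotient.nontrivial_iff.2 ha
  haveI : IsLocalRing R := .of_surjective' (Ideal.Quotient.mk a) Ideal.Quotient.mk_surjective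
  -- primes of the support
  have hsupp : ∀ P : PrimeSpectrum B, a ≤ P.asIdeal → img (A := A) P ∈ Module.support A E := fun P hP => by
    rw [Module.support_eq_zeroLocus]
    intro r hr
    refine hP (Module.mem_annihilator.2 fun y => ?_)
    obtain ⟨x, rfl⟩ := Submodule.Quotient.mk_surjective _ y
    obtain ⟨⟨m, t⟩, rfl⟩ := IsLocalizedModule.mk'_surjective S (LocalizedModule.mkLinearMap S E) x
    rw [← Submodule.Quotient.mk_smul, algebraMap_smul, Function.uncurry_apply_pair, ← IsLocalizedModule.mk'_smul,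
      Module.mem_annihilator.1 hr m, IsLocalizedModule.mk'_zero, Submodule.Quotient.mk_zero]
  have himg : ∀ P : PrimeSpectrum B, img (A := A) P ≤ q := fun P =>
    (IsLocalization.AtPrime.primeSpectrumOrderIso B q.asIdeal P).2
  have hnI : ∀ P : PrimeSpectrum B, P.asIdeal ∈ a.minimalPrimes → ¬ I ≤ (img (A := A) P).asIdeal := by
    intro P hP hle
    have hJP : J ≤ P.asIdeal := Ideal.map_le_iff_le_comap.2 hle
    obtain ⟨-, f, hf⟩ := (isAssociatedPrime_iff_exists_injective_linearMap _ _).1
      (Module.associatedPrimes.minimalPrimes_annihilator_subset_associatedPrimes B Y hP)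
    have h1 : f (Submodule.Quotient.mk 1) ∈ DRing.torsionSub J Y := ⟨1, fun r hr => by
      rw [pow_one] at hr
      rw [← map_smul, ← Submodule.Quotient.mk_smul, smul_eq_mul, mul_one,
        (Submodule.Quotient.mk_eq_zero _).2 (hJP hr), map_zero]⟩
    rw [Groth.L04.LC.torsionSub_quotient_eq_bot J X, Submodule.mem_bot, ← map_zero f, hf.eq_iff,
      Submodule.Quotient.mk_eq_zero] at h1
    exact P.isPrime.ne_top ((Ideal.eq_top_iff_one _).2 h1)
  have hdimle : ringKrullDim R ≤ (c : WithBot ℕ∞) := by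
    rw [ringKrullDim_quotient]
    refine iSup_le fun l => ?_
    obtain ⟨P₀, hP₀, hle⟩ := Ideal.exists_minimalPrimes_le (I := a) (J := l.head.1.asIdeal) l.head.2
    let P : PrimeSpectrum B := ⟨P₀, hP₀.1.1⟩
    have h1 := (hE _ (hsupp P hP₀.1.2) (himg P) (hnI P hP₀)).1
    let e := IsLocalization.AtPrime.primeSpectrumOrderIso B q.asIdeal
    let g : PrimeSpectrum.zeroLocus (a : Set B) → PrimeSpectrum A := fun Q => img (A := A) Q.1
    have hg : StrictMono g := fun Q Q' h =>
      (show (e Q.1).1 < (e Q'.1).1 from e.strictMono h)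
    have hmem : ∀ k, g (l k) ∈ Set.Icc (img (A := A) P) q := fun k =>
      ⟨(Ideal.comap_mono (hle.trans (show l.head.1.asIdeal ≤ (l k).1.asIdeal from l.monotone (Fin.zero_le k))) :
        (img (A := A) P).asIdeal ≤ _), himg _⟩
    have h2 : (l.length : WithBot ℕ∞) ≤ Order.krullDim (Set.Icc (img (A := A) P) q) :=
      Order.LTSeries.length_le_krullDim (LTSeries.mk l.length (fun k => (⟨g (l k), hmem k⟩ : Set.Icc (img (A := A) P) q))
        (fun _ _ h => hg (l.strictMono h)))
    rw [krullDim_Icc hω _ _ (himg P)] at h2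
    exact h2.trans (Nat.cast_le.2 (Int.toNat_le.2 h1))
  haveI : Module.IsTorsionBySet B Y a := fun y r => Module.mem_annihilator.1 r.2 y
  letI : Module R Y := Module.IsTorsionBySet.module ‹_›
  haveI : IsScalarTower B R Y := Module.IsTorsionBySet.isScalarTower ‹_›
  haveI : Module.Finite R Y := Module.Finite.of_restrictScalars_finite B R Y
  rw [← Groth.L04.LC.subsingleton_H_map_iff (R' := R) J c Y]
  rcases hdimle.lt_or_eq with hlt | heq
  · exact Groth.L04.LC.subsingleton_H_of_supportDim_lt _ Y c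
      ((Module.supportDim_le_ringKrullDim R Y).trans_lt hlt)
  refine (Groth.L04.Canon.cdLE_of_completion (J.map (algebraMap B R)) heq fun p hp hpd => ?_).2 Y c (by omega)
  by_contra hcon
  rw [not_le, Ideal.map_map] at hcon
  obtain ⟨p', hp'I, hp'max, hp'dim, hap'⟩ :=
    exists_prime_completion I q hIq a p hp.1.1 c hc hpd hcon
  have h := h6 p' hp'I hp'max
  obtain ⟨f, e, hd, he, hf⟩ := exists_depth_eq_dim (M := M) hω hIq p'
  obtain rfl : e = c := by exact_mod_cast he.symm.trans hp'dim
  let P := img (A := Aq q) p'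
  have hPI : ¬ I ≤ (img (A := A) P).asIdeal := fun hle => hp'I (by
    rw [← map_I_eq I q, Ideal.map_le_iff_le_comap, Ideal.map_le_iff_le_comap]
    exact hle)
  obtain ⟨h1, h2⟩ := hE _ (hsupp P hap') (himg P) hPI
  have hf' : (f : ℤ) = dimFun hω (img (A := A) P) - dimFun hω q - (e : ℤ) := hf
  have hf0 : f = 0 := by omega
  rw [hd, hf0, Nat.cast_zero, add_zero] at h
  exact absurd (h2 (le_antisymm h1 (by omega))) (not_le.2 h)

end Groth.L04.CplTop
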