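import Groth.Agent.L04.Formal.Bootstrap

/-!
# Local completions of a completion
-/

set_option autoImplicit false
set_option linter.style.haveILetI false
set_option backward.isDefEq.respectTransparency false
universe u

open CategoryTheory IsLocalRing PrimeSpectrum

attribute [local instance] HasDerivedCategory.standard

noncomputable section

namespace Groth.L04.Bootstrap

open Groth.L29 Groth.L29.HomD Groth.L04.AnnihDual Groth.L04.CplDim

theorem factorPow_evalₐ {R : Type u} [CommRing R] (I : Ideal R) {m n : ℕ} (h : m ≤ n) (x : AdicCompletion I R) :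
    Ideal.Quotient.factorPow I h (AdicCompletion.evalₐ I n x) = AdicCompletion.evalₐ I m x := by
  induction x using AdicCompletion.induction_on with
  | h s =>
    rw [AdicCompletion.evalₐ_mk, AdicCompletion.evalₐ_mk, Ideal.Quotient.factor_mk, Ideal.Quotient.eq]
    have := SModEq.sub_mem.mp (s.property h)
    rw [smul_eq_mul, Ideal.mul_top] at this
    rw [← neg_sub]
    exact neg_mem this

/-- Completions of rings which agree modulo all powers. -/
theorem exists_cplEquiv {A B R : Type u} [CommRing A] [CommRing B] [CommRing R] [Algebra A B] [Algebra A R]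
    (K : Ideal B) (I : Ideal R) (ψ : B →ₐ[A] R) (hle : ∀ n, K ^ n ≤ (I ^ n).comap ψ.toRingHom)
    (hb : ∀ n, Function.Bijective (Ideal.quotientMap (I ^ n) ψ.toRingHom (hle n))) :
    Nonempty (AdicCompletion K B ≃ₐ[A] AdicCompletion I R) := by
  let e : ∀ n, B ⧸ K ^ n ≃+* R ⧸ I ^ n := fun n => RingEquiv.ofBijective _ (hb n)
  have he : ∀ {m n : ℕ} (h : m ≤ n) (x : B ⧸ K ^ n),
      Ideal.Quotient.factorPow I h (e n x) = e m (Ideal.Quotient.factorPow K h x) := by
    intro m n h x
    obtain ⟨b, rfl⟩ := Ideal.Quotient.mk_surjective x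
    rfl
  have he' : ∀ {m n : ℕ} (h : m ≤ n) (x : R ⧸ I ^ n),
      Ideal.Quotient.factorPow K h ((e n).symm x) = (e m).symm (Ideal.Quotient.factorPow I h x) := by
    intro m n h x
    obtain ⟨y, rfl⟩ := (e n).surjective x
    rw [he h, RingEquiv.symm_apply_apply, RingEquiv.symm_apply_apply]
  let F : AdicCompletion K B →+* AdicCompletion I R :=
    AdicCompletion.liftRingHom I (fun n => (e n).toRingHom.comp (AdicCompletion.evalₐ K n).toRingHom)
      (fun {m n} h => RingHom.ext fun x => by
        show Ideal.Quotient.factorPow I h (e n _) = e m _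
        rw [he h]
        exact congrArg (e m) (factorPow_evalₐ K h x))
  let G : AdicCompletion I R →+* AdicCompletion K B :=
    AdicCompletion.liftRingHom K (fun n => (e n).symm.toRingHom.comp (AdicCompletion.evalₐ I n).toRingHom)
      (fun {m n} h => RingHom.ext fun x => by
        show Ideal.Quotient.factorPow K h ((e n).symm _) = (e m).symm _
        rw [he' h]
        exact congrArg (e m).symm (factorPow_evalₐ I h x))
  have hF : ∀ n x, AdicCompletion.evalₐ I n (F x) = e n (AdicCompletion.evalₐ K n x) :=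
    fun n x => AdicCompletion.evalₐ_liftRingHom I _ _ n x
  have hG : ∀ n x, AdicCompletion.evalₐ K n (G x) = (e n).symm (AdicCompletion.evalₐ I n x) :=
    fun n x => AdicCompletion.evalₐ_liftRingHom K _ _ n x
  refine ⟨AlgEquiv.ofRingEquiv (f := RingEquiv.ofRingHom F G
    (RingHom.ext fun x => AdicCompletion.ext_evalₐ fun n => by
      show AdicCompletion.evalₐ I n (F (G x)) = AdicCompletion.evalₐ I n x
      rw [hF, hG, RingEquiv.apply_symm_apply])
    (RingHom.ext fun x => AdicCompletion.ext_evalₐ fun n => by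
      show AdicCompletion.evalₐ K n (G (F x)) = AdicCompletion.evalₐ K n x
      rw [hG, hF, RingEquiv.symm_apply_apply])) fun a => AdicCompletion.ext_evalₐ fun n => ?_⟩
  show AdicCompletion.evalₐ I n (F (algebraMap A _ a)) = AdicCompletion.evalₐ I n (algebraMap A _ a)
  rw [hF, show algebraMap A (AdicCompletion K B) a = algebraMap B _ (algebraMap A B a) from rfl,
    show algebraMap A (AdicCompletion I R) a = algebraMap R _ (algebraMap A R a) from rfl,
    AlgHom.commutes, AlgHom.commutes, ← ψ.commutes a]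
  rfl

variable {A : Type u} [CommRing A] [IsNoetherianRing A] (I : Ideal A)

theorem ker_evalₐ_le (n : ℕ) (u : AdicCompletion I A) (h : AdicCompletion.evalₐ I n u = 0) :
    u ∈ (I ^ n).map (algebraMap A (AdicCompletion I A)) := by
  have h1 : AdicCompletion.eval I A n u = 0 := by
    refine (Ideal.quotientEquivAlgOfEq A (show (I ^ n • ⊤ : Ideal A) = I ^ n by ext x; simp)).injective ?_
    rw [map_zero]; exact h
  have h2 : u ∈ (AdicCompletion.eval I A n).ker := h1
  rw [← AdicCompletion.pow_smul_top_eq_ker_eval (IsNoetherian.noetherian I)] at h2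
  rwa [Ideal.smul_top_eq_map] at h2

theorem mem_pow_of_map_mem (n : ℕ) (a : A)
    (h : algebraMap A (AdicCompletion I A) a ∈ (I ^ n).map (algebraMap A (AdicCompletion I A))) : a ∈ I ^ n := by
  have hle : (I ^ n).map (algebraMap A (AdicCompletion I A)) ≤ RingHom.ker (AdicCompletion.evalₐ I n).toRingHom := by
    rw [Ideal.map_le_iff_le_comap]
    intro x hx
    rw [Ideal.mem_comap, RingHom.mem_ker]
    exact ((AdicCompletion.evalₐ I n).commutes x).trans (Ideal.Quotient.eq_zero_iff_mem.2 hx)
  exact Ideal.Quotient.eq_zero_iff_mem.1 (((AdicCompletion.evalₐ I n).commutes a).symm.trans (hle h))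

/-- Completing at a point of `V(I)` before or after completing along `I`. -/
theorem exists_local_cplEquiv (Q : PrimeSpectrum (AdicCompletion I A))
    (hQ : I.map (algebraMap A (AdicCompletion I A)) ≤ Q.asIdeal) :
    Nonempty (Bq I (img (A := A) Q) ≃ₐ[A] Bq (I.map (algebraMap A (AdicCompletion I A))) Q) := by
  let A' := AdicCompletion I A
  let q := img (A := A) Q
  let R' := Localization.AtPrime Q.asIdeal
  have hu : ∀ y : q.asIdeal.primeCompl, IsUnit (Algebra.ofId A R' y) := fun y => by
    change IsUnit (algebraMap A R' (y : A))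
    rw [IsScalarTower.algebraMap_apply A A' R']
    exact IsLocalization.map_units R' (⟨_, y.2⟩ : Q.asIdeal.primeCompl)
  let ψ : Aq q →ₐ[A] R' := IsLocalization.liftAlgHom hu
  have hK : ∀ n, (I.map (algebraMap A (Aq q))) ^ n = (I ^ n).map (algebraMap A (Aq q)) :=
    fun n => (Ideal.map_pow _ I n).symm
  have hI' : ∀ n, ((I.map (algebraMap A A')).map (algebraMap A' R')) ^ n =
      ((I ^ n).map (algebraMap A A')).map (algebraMap A' R') := fun n => by
    rw [Ideal.map_pow, Ideal.map_pow]
  have hle : ∀ n, (I.map (algebraMap A (Aq q))) ^ n ≤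
      (((I.map (algebraMap A A')).map (algebraMap A' R')) ^ n).comap ψ.toRingHom := fun n => by
    rw [← Ideal.map_le_iff_le_comap, hK, hI', Ideal.map_map, Ideal.map_map,
      show ψ.toRingHom.comp (algebraMap A (Aq q)) = algebraMap A R' from ψ.comp_algebraMap,
      ← IsScalarTower.algebraMap_eq A A' R']
  refine exists_cplEquiv _ _ ψ hle fun n => ?_
  rcases Nat.eq_zero_or_pos n with rfl | hn
  · exact ⟨fun x y _ => by
      obtain ⟨x, rfl⟩ := Ideal.Quotient.mk_surjective x
      obtain ⟨y, rfl⟩ := Ideal.Quotient.mk_surjective y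
      exact Ideal.Quotient.eq.2 (by rw [pow_zero, Ideal.one_eq_top]; trivial), fun y => by
      obtain ⟨y, rfl⟩ := Ideal.Quotient.mk_surjective y
      exact ⟨0, (map_zero _).trans (Ideal.Quotient.eq_zero_iff_mem.2
        (by rw [pow_zero, Ideal.one_eq_top]; trivial)).symm⟩⟩
  have hnQ : (I ^ n).map (algebraMap A A') ≤ Q.asIdeal := (Ideal.map_mono (Ideal.pow_le_self hn.ne')).trans hQ
  have happ : ∀ a : A, ψ (algebraMap A (Aq q) a) = algebraMap A' R' (algebraMap A A' a) := fun a =>
    (ψ.commutes a).trans (IsScalarTower.algebraMap_apply A A' R' a)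
  have hlift : ∀ u : A', ∃ a : A, u - algebraMap A A' a ∈ (I ^ n).map (algebraMap A A') := fun u => by
    obtain ⟨a, ha⟩ := Ideal.Quotient.mk_surjective (AdicCompletion.evalₐ I n u)
    refine ⟨a, ker_evalₐ_le I n _ ?_⟩
    rw [map_sub, sub_eq_zero, AlgHom.commutes]
    exact ha.symm
  refine ⟨(injective_iff_map_eq_zero _).2 fun x hx => ?_, fun y => ?_⟩
  · obtain ⟨x, rfl⟩ := Ideal.Quotient.mk_surjective x
    obtain ⟨a, s, rfl⟩ := IsLocalization.exists_mk'_eq q.asIdeal.primeCompl x
    rw [Ideal.quotientMap_mk, Ideal.Quotient.eq_zero_iff_mem] at hx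
    rw [Ideal.Quotient.eq_zero_iff_mem, hK, IsLocalization.mk'_mem_map_algebraMap_iff]
    have h1 : algebraMap A' R' (algebraMap A A' a) ∈ ((I ^ n).map (algebraMap A A')).map (algebraMap A' R') := by
      rw [← happ, ← IsLocalization.mk'_spec (Aq q) a s, map_mul, ← hI']
      exact Ideal.mul_mem_right _ _ hx
    obtain ⟨m, hm, hma⟩ := (IsLocalization.algebraMap_mem_map_algebraMap_iff Q.asIdeal.primeCompl R' _ _).1 h1
    obtain ⟨b, hb⟩ := hlift m
    refine ⟨b, fun hbq => hm ?_, mem_pow_of_map_mem I n _ ?_⟩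
    · exact (congrArg (· ∈ Q.asIdeal) (sub_add_cancel m (algebraMap A A' b))).mp
        (Q.asIdeal.add_mem (hnQ hb) (hbq : algebraMap A A' b ∈ Q.asIdeal))
    · rw [map_mul]
      have := Ideal.sub_mem _ hma (Ideal.mul_mem_right (algebraMap A A' a) _ hb)
      rwa [← sub_mul, sub_sub_cancel] at this
  · obtain ⟨y, rfl⟩ := Ideal.Quotient.mk_surjective y
    obtain ⟨u, v, rfl⟩ := IsLocalization.exists_mk'_eq Q.asIdeal.primeCompl y
    obtain ⟨a, ha⟩ := hlift u
    obtain ⟨b, hb⟩ := hlift v
    have hbq : b ∈ q.asIdeal.primeCompl := fun hbq => v.2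
      ((congrArg (· ∈ Q.asIdeal) (sub_add_cancel (v : A') (algebraMap A A' b))).mp
        (Q.asIdeal.add_mem (hnQ hb) (hbq : algebraMap A A' b ∈ Q.asIdeal)))
    refine ⟨Ideal.Quotient.mk _ (IsLocalization.mk' (Aq q) a ⟨b, hbq⟩), ?_⟩
    rw [Ideal.quotientMap_mk, Ideal.Quotient.eq, hI']
    have hz : u * algebraMap A A' b - algebraMap A A' a * v ∈ (I ^ n).map (algebraMap A A') := by
      rw [show u * algebraMap A A' b - algebraMap A A' a * v = (u - algebraMap A A' a) * algebraMap A A' b -
        algebraMap A A' a * ((v : A') - algebraMap A A' b) by ring]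
      exact Ideal.sub_mem _ (Ideal.mul_mem_right _ _ ha) (Ideal.mul_mem_left _ _ hb)
    have hv : IsUnit (algebraMap A' R' (algebraMap A A' b * v)) := by
      rw [map_mul]
      exact (IsLocalization.map_units R' (⟨_, show algebraMap A A' b ∈ Q.asIdeal.primeCompl from hbq⟩ :
        Q.asIdeal.primeCompl)).mul (IsLocalization.map_units R' v)
    refine (Ideal.unit_mul_mem_iff_mem _ hv).1 ?_
    have h3 := (((I ^ n).map (algebraMap A A')).map (algebraMap A' R')).neg_mem
      (Ideal.mem_map_of_mem (algebraMap A' R') hz)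
    refine (congrArg (fun t : R' => t ∈ ((I ^ n).map (algebraMap A A')).map (algebraMap A' R')) ?_).mpr h3
    have e1 : ψ (IsLocalization.mk' (Aq q) a ⟨b, hbq⟩) * algebraMap A' R' (algebraMap A A' b) =
        algebraMap A' R' (algebraMap A A' a) := by
      rw [← happ, ← happ, ← map_mul, IsLocalization.mk'_spec (Aq q) a (⟨b, hbq⟩ : q.asIdeal.primeCompl)]
    have e2 := IsLocalization.mk'_spec R' u v
    change algebraMap A' R' (algebraMap A A' b * v) * (ψ (IsLocalization.mk' (Aq q) a ⟨b, hbq⟩) -
      IsLocalization.mk' R' u v) = _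
    simp only [map_mul, map_sub, neg_sub]
    linear_combination (algebraMap A' R' (v : A')) * e1 - (algebraMap A' R' (algebraMap A A' b)) * e2

variable {I}
variable (M : Type u) [AddCommGroup M] [Module A M] [Module.Finite A M]

omit [IsNoetherianRing A] in
theorem img_img {B C : Type u} [CommRing B] [CommRing C] [Algebra A B] [Algebra B C] [Algebra A C]
    [IsScalarTower A B C] (P : PrimeSpectrum C) : img (A := A) (img (A := B) P) = img (A := A) P :=
  PrimeSpectrum.ext (by
    change (P.asIdeal.comap (algebraMap B C)).comap (algebraMap A B) = P.asIdeal.comap (algebraMap A C)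
    rw [Ideal.comap_comap, ← IsScalarTower.algebraMap_eq A B C])

/-- The sixth condition passes to the completion along `I`. -/
theorem six_completion {ω : Dual.D A} (hω : Dual.IsDualizing A ω) {s : ℕ}
    (Q : PrimeSpectrum (AdicCompletion I A)) (hQ : I.map (algebraMap A (AdicCompletion I A)) ≤ Q.asIdeal)
    (h6 : ∀ p' : PrimeSpectrum (Bq I (img (A := A) Q)), ¬ I.map (algebraMap A (Bq I (img (A := A) Q))) ≤ p'.asIdeal →
      (∀ q' : PrimeSpectrum (Bq I (img (A := A) Q)), p' ≤ q' →
        I.map (algebraMap A (Bq I (img (A := A) Q))) ≤ q'.asIdeal → q'.asIdeal.IsMaximal) →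
        (s : ℕ∞) < LocCoh.depth (Localization.AtPrime p'.asIdeal) (LocalizedModule p'.asIdeal.primeCompl
          (AdicCompletion (I.map (algebraMap A (Aq (img (A := A) Q))))
            (LocalizedModule (img (A := A) Q).asIdeal.primeCompl M))))
    (P : PrimeSpectrum (Bq (I.map (algebraMap A (AdicCompletion I A))) Q))
    (hP : ¬ (I.map (algebraMap A (AdicCompletion I A))).map (algebraMap (AdicCompletion I A)
      (Bq (I.map (algebraMap A (AdicCompletion I A))) Q)) ≤ P.asIdeal)
    (hmax : ∀ Q' : PrimeSpectrum (Bq (I.map (algebraMap A (AdicCompletion I A))) Q), P ≤ Q' →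
      (I.map (algebraMap A (AdicCompletion I A))).map (algebraMap (AdicCompletion I A)
        (Bq (I.map (algebraMap A (AdicCompletion I A))) Q)) ≤ Q'.asIdeal → Q'.asIdeal.IsMaximal) :
    (s : ℕ∞) < LocCoh.depth (Localization.AtPrime P.asIdeal) (LocalizedModule P.asIdeal.primeCompl
      (AdicCompletion ((I.map (algebraMap A (AdicCompletion I A))).map
          (algebraMap (AdicCompletion I A) (Aq Q)))
        (LocalizedModule Q.asIdeal.primeCompl (AdicCompletion I M)))) := by
  haveI := Groth.L01.AdicNoeth.isNoetherianRing_adicCompletion I (IsNoetherian.noetherian I)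
  haveI : Module.Finite (AdicCompletion I A) (AdicCompletion I M) :=
    Module.Finite.equiv (AdicCompletion.ofTensorProductEquivOfFiniteNoetherian I M)
  let I' := I.map (algebraMap A (AdicCompletion I A))
  let C := Bq I' Q
  have hωB := CplDim.isDualizing_completion I hω
  obtain ⟨e⟩ := exists_local_cplEquiv I Q hQ
  let p' := PrimeSpectrum.comap e.toAlgHom.toRingHom P
  haveI : IsScalarTower A (AdicCompletion I A) C := IsScalarTower.of_algebraMap_eq fun a => by
    rw [show algebraMap A C a = algebraMap (Aq Q) C (algebraMap A (Aq Q) a) from rfl,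
      IsScalarTower.algebraMap_apply A (AdicCompletion I A) (Aq Q)]
    rfl
  have hmap : I'.map (algebraMap (AdicCompletion I A) C) = (I.map (algebraMap A (Bq I (img (A := A) Q)))).map e.toAlgHom.toRingHom := by
    refine (Ideal.map_map (algebraMap A (AdicCompletion I A)) (algebraMap (AdicCompletion I A) C)).trans
      (Eq.trans ?_ (Ideal.map_map _ _).symm)
    exact congrArg (fun g : A →+* C => I.map g)
      ((IsScalarTower.algebraMap_eq A (AdicCompletion I A) C).symm.trans e.toAlgHom.comp_algebraMap.symm)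
  have h := h6 p' (fun h => hP (by rw [hmap, Ideal.map_le_iff_le_comap]; exact h)) fun q' hq' hIq' => by
    let E := PrimeSpectrum.comap e.symm.toAlgHom.toRingHom q'
    have hEid : q'.asIdeal = E.asIdeal.comap e.toAlgHom.toRingHom := by
      ext x
      change x ∈ q'.asIdeal ↔ e.symm (e x) ∈ q'.asIdeal
      rw [AlgEquiv.symm_apply_apply]
    have h1 : E.asIdeal.IsMaximal := hmax E (fun x hx => hq' (show e (e.symm x) ∈ P.asIdeal by
      rwa [AlgEquiv.apply_symm_apply])) (by
      rw [hmap, Ideal.map_le_iff_le_comap, ← hEid]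
      exact hIq')
    rw [hEid]
    exact Ideal.comap_isMaximal_of_surjective _ e.surjective
  obtain ⟨f₁, e₁, hd₁, hdim₁, hf₁⟩ := exists_depth_eq_dim (M := M) hω (Ideal.map_le_iff_le_comap.1 hQ) p'
  obtain ⟨f₂, e₂, hd₂, hdim₂, hf₂⟩ := exists_depth_eq_dim (M := AdicCompletion I M) hωB hQ P
  let P' := img (A := AdicCompletion I A) (img (A := Aq Q) P)
  obtain ⟨f, hf, hf'⟩ := fibDepth_eq hω hωB P'
  have hQd : dimFun hωB Q = dimFun hω (img (A := A) Q) := dimFun_eq_of_minimal hω hωB Q (by
    rw [show (img (A := A) Q).asIdeal.map (algebraMap A _) = Q.asIdeal from map_comap_eq I Q.asIdeal hQ,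
      Ideal.minimalPrimes_eq_subsingleton_self]
    exact rfl)
  have hee : e₁ = e₂ := by
    have hq : ringKrullDim (Bq I (img (A := A) Q) ⧸ p'.asIdeal) = ringKrullDim (C ⧸ P.asIdeal) :=
      ringKrullDim_eq_of_ringEquiv (Ideal.quotientEquiv p'.asIdeal P.asIdeal e.toRingEquiv (by
        refine le_antisymm (fun x hx => ?_) (Ideal.map_le_iff_le_comap.2 le_rfl)
        rw [← e.apply_symm_apply x]
        exact Ideal.mem_map_of_mem _ (show e (e.symm x) ∈ P.asIdeal by rwa [AlgEquiv.apply_symm_apply])))
    rw [hdim₁] at hq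
    exact_mod_cast hq.trans hdim₂
  have himg : img (A := A) (img (A := Aq (img (A := A) Q)) p') = img (A := A) P' := by
    rw [img_img, show img (A := A) P' = img (A := A) P from
      ((congrArg (img (A := A)) (img_img (A := AdicCompletion I A) (B := Aq Q) (C := C) P)).trans
        (img_img (A := A) (B := AdicCompletion I A) (C := C) P))]
    refine PrimeSpectrum.ext ?_
    change (P.asIdeal.comap e.toAlgHom.toRingHom).comap (algebraMap A _) = P.asIdeal.comap (algebraMap A C)
    rw [Ideal.comap_comap]
    exact congrArg (fun g : A →+* C => P.asIdeal.comap g) e.toAlgHom.comp_algebraMap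
  rw [hd₁, himg] at h
  rw [himg] at hf₁
  rw [hd₂]
  change (s : ℕ∞) < AlgKill.dep (AdicCompletion I M) P' + f₂
  rw [show AlgKill.dep (AdicCompletion I M) P' = AlgKill.dep M (img (A := A) P') + fibDepth A P' from
    depth_completion I M P', hf, add_assoc, ← Nat.cast_add]
  have : f + f₂ = f₁ := by
    change (f₂ : ℤ) = dimFun hωB P' - dimFun hωB Q - e₂ at hf₂
    lia
  rwa [this]

end Groth.L04.Bootstrap
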