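import Groth.Agent.L04.LC.AnnihDuality
import Groth.Agent.L29.Dual.LocalDualityH
import Groth.Agent.S0299

/-!
# Kernels on local cohomology from images on the duals
-/

set_option autoImplicit false
set_option linter.style.haveILetI false
set_option backward.isDefEq.respectTransparency false
universe u

open CategoryTheory CategoryTheory.Abelian IsLocalRing
open scoped TensorProduct

attribute [local instance] HasDerivedCategory.standard

noncomputable section

namespace Groth.L04.DualCrit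

open Groth.L29 Groth.L29.HomD Groth.L04.AnnihDual Groth.L04.LC

section Local

variable {B : Type u} [CommRing B] [IsLocalRing B] [IsNoetherianRing B] {W : Dual.D B}

/-- If the image of the dual of `g` lies in that of `g₀`, then `H^i_m(g)` kills the kernel of `H^i_m(g₀)`. -/
theorem map_eq_zero_of_range_le (hW : Dual.IsDualizing B W) (hn : Dual.IsNormalized B W)
    {N₀ N N' : Type u} [AddCommGroup N₀] [Module B N₀] [AddCommGroup N] [Module B N] [AddCommGroup N']
    [Module B N'] [Module.Finite B N'] (g₀ : N →ₗ[B] N₀) (g : N →ₗ[B] N') (i : ℕ)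
    (h : ∀ φ : Dual.inD B N' ⟶ W⟦(-(i : ℤ))⟧, ∃ ψ, pre W g₀ (-(i : ℤ)) ψ = pre W g (-(i : ℤ)) φ)
    (z : LocCoh.H (maximalIdeal B) i N)
    (hz : ((localCohomology (maximalIdeal B) i).map (ModuleCat.ofHom g₀)).hom z = 0) :
    ((localCohomology (maximalIdeal B) i).map (ModuleCat.ofHom g)).hom z = 0 := by
  obtain ⟨E, _, _, f, hf⟩ := Groth.Agent.S0299.result B (ResidueField B)
  obtain ⟨S⟩ := LocDual.exists_pairing hW hn f hf
  obtain ⟨n, a, rfl⟩ := Hι_surjective (maximalIdeal B) i (ModuleCat.of B N) z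
  rw [map_Hι, Hι_eq_zero_iff] at hz
  obtain ⟨m, hm, hm0⟩ := hz
  rw [← Hι_map (maximalIdeal B) i hm (ModuleCat.of B N) a, map_Hι]
  set b : Ext (quot (maximalIdeal B) m) (ModuleCat.of B N) i :=
    (Ext.mk₀ (quotMap (maximalIdeal B) hm)).comp a (zero_add i) with hb
  have hb0 : b.comp (Ext.mk₀ (ModuleCat.ofHom g₀)) (add_zero i) = 0 :=
    (Ext.comp_assoc_of_third_deg_zero _ _ _ _).trans hm0
  let sh := shiftFunctor (Dual.D B) (i : ℤ)
  let F := DerivedCategory.singleFunctor (ModuleCat.{u} B) 0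
  have key : ∀ (P : ModuleCat.{u} B) (k : ModuleCat.of B N ⟶ P),
      (b.comp (Ext.mk₀ k) (add_zero i)).hom = b.hom ≫ sh.map (F.map k) := fun P k =>
    (Ext.hom_comp_singleFunctor_map_shift b k).symm
  let X' : Dual.D B := (Dual.inD B N')⟦(i : ℤ)⟧
  let x' : LocDual.P B m ⟶ X' := (b.comp (Ext.mk₀ (ModuleCat.ofHom g)) (add_zero i)).hom
  have hpair : LocDual.pair S m X' x' = 0 := by
    refine LinearMap.ext fun t => ?_
    rw [LocDual.pair_apply]
    suffices hxt : x' ≫ t = 0 by rw [hxt, map_zero]; rfl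
    let e : sh.obj ((shiftFunctor (Dual.D B) (-(i : ℤ))).obj W) ≅ W :=
      (shiftEquiv (Dual.D B) (i : ℤ)).counitIso.app W
    obtain ⟨φ, hφ⟩ := sh.map_surjective (t ≫ e.inv)
    have ht : t = sh.map φ ≫ e.hom := by
      rw [hφ, Category.assoc, Iso.inv_hom_id, Category.comp_id]
    obtain ⟨ψ, hψ⟩ := h φ
    have h1 : sh.map (F.map (ModuleCat.ofHom g)) ≫ sh.map φ =
        sh.map (F.map (ModuleCat.ofHom g₀)) ≫ sh.map ψ := by
      rw [← Functor.map_comp, ← Functor.map_comp]
      exact congrArg sh.map hψ.symm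
    change (b.comp (Ext.mk₀ (ModuleCat.ofHom g)) (add_zero i)).hom ≫ t = 0
    rw [key, ht, Category.assoc, reassoc_of% h1, ← Category.assoc, ← key _ (ModuleCat.ofHom g₀), hb0,
      Ext.zero_hom, Limits.zero_comp]
  obtain ⟨d, hd⟩ := Groth.L01.exists_dim_eq_nat (R := B)
  obtain ⟨l, hl, hl0⟩ := (LocDual.LD.finite S d N' ((Module.supportDim_le_ringKrullDim _ _).trans hd.le)
    (i : ℤ)).1 m x' hpair
  refine (Hι_eq_zero_iff (maximalIdeal B) i).2 ⟨l, hl, ?_⟩
  refine Ext.homEquiv.injective ?_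
  refine Eq.trans ?_ (Ext.zero_hom (quot (maximalIdeal B) l) (ModuleCat.of B N') i).symm
  refine (Ext.singleFunctor_map_comp_hom (quotMap (maximalIdeal B) hl) _).symm.trans ?_
  have hproj : quotMap (maximalIdeal B) hl = LocDual.proj hl := ModuleCat.hom_ext (Submodule.linearMap_qext _ rfl)
  rw [hproj]
  exact hl0

end Local

section Localization

variable {A : Type u} [CommRing A] [IsNoetherianRing A] {ω : Dual.D A}

theorem shiftLeft_pre {C : Type u} [CommRing C] (W : Dual.D C) {X X' : Dual.D C} (f : X ⟶ X') (j : ℤ)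
    (φ : X' ⟶ W⟦j⟧) :
    RestrictAdj.shiftLeft X W j (f ≫ φ) =
      (shiftFunctor (Dual.D C) (-j)).map f ≫ RestrictAdj.shiftLeft X' W j φ := by
  simp [RestrictAdj.shiftLeft, Linear.homCongr, LinearEquiv.trans_apply, LinearEquiv.ofBijective_apply]

theorem singleL_natural {B : Type u} [CommRing B] [Algebra A B] [Module.Flat A B] {M M' : Type u}
    [AddCommGroup M] [Module A M] [AddCommGroup M'] [Module A M'] (g : M →ₗ[A] M') :
    (FlatBC.L A B).map ((sg A).map (ModuleCat.ofHom g)) ≫ (FlatBC.singleL B M').hom =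
      (FlatBC.singleL B M).hom ≫ (sg B).map (ModuleCat.ofHom (g.baseChange B)) := by
  have h1 := ((FlatBC.ext A B).mapDerivedCategorySingleFunctor 0).hom.naturality (ModuleCat.ofHom g)
  have h2 : (FlatBC.ext A B).map (ModuleCat.ofHom g) ≫
      (FlatBC.extEquiv A B (ModuleCat.of A M')).toModuleIso.hom =
      (FlatBC.extEquiv A B (ModuleCat.of A M)).toModuleIso.hom ≫ ModuleCat.ofHom (g.baseChange B) :=
    ModuleCat.hom_ext (LinearMap.ext fun x => FlatBC.extEquiv_natural A B (ModuleCat.ofHom g) x)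
  simp only [FlatBC.singleL, Iso.trans_hom, Functor.mapIso_hom, Iso.app_hom, Category.assoc]
  rw [← Category.assoc]
  refine (congrArg (· ≫ _) h1).trans ?_
  rw [Category.assoc]
  congr 1
  rw [← Functor.map_comp]
  exact ((sg B).map_comp _ _).symm.trans (congrArg (sg B).map h2)

theorem homEquiv_natural {B : Type u} [CommRing B] [Algebra A B] [Module.Flat A B] (a : ℤ) [ω.IsGE a]
    {M M' : Type u} [AddCommGroup M] [Module A M] [Module.Finite A M] [AddCommGroup M'] [Module A M']
    [Module.Finite A M'] (g : M →ₗ[A] M') (i : ℤ) (x : Dual.inD A M' ⟶ ω⟦i⟧) :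
    FlatBC.homEquiv (B := B) a M i ((1 : B) ⊗ₜ[A] pre ω g i x) =
      pre ((FlatBC.L A B).obj ω) (g.baseChange B) i (FlatBC.homEquiv (B := B) a M' i ((1 : B) ⊗ₜ[A] x)) := by
  apply (RestrictAdj.shiftLeft _ ((FlatBC.L A B).obj ω) i).injective
  rw [pre_apply (W := (FlatBC.L A B).obj ω), shiftLeft_pre]
  have hcalc : ∀ (N : Type u) [AddCommGroup N] [Module A N] [Module.Finite A N] (y : Dual.inD A N ⟶ ω⟦i⟧),
      RestrictAdj.shiftLeft _ ((FlatBC.L A B).obj ω) i (FlatBC.homEquiv (B := B) a N i ((1 : B) ⊗ₜ[A] y)) =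
        (((FlatBC.L A B).commShiftIso (-i)).app (Dual.inD A N) ≪≫
            (shiftFunctor (Dual.D B) (-i)).mapIso (FlatBC.singleL B N)).inv ≫
          (FlatBC.L A B).map (RestrictAdj.shiftLeft (Dual.inD A N) ω i y) := by
    intro N _ _ _ y
    simp [FlatBC.homEquiv, Linear.homCongr]
  rw [hcalc, hcalc, pre_apply (W := ω), shiftLeft_pre, Functor.map_comp, ← Category.assoc, ← Category.assoc]
  congr 1
  rw [Iso.eq_comp_inv, Category.assoc, Iso.inv_comp_eq]
  simp only [Iso.trans_hom, Functor.mapIso_hom, Iso.app_hom, Category.assoc]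
  have h1 := ((FlatBC.L A B).commShiftIso (-i)).hom.naturality ((sg A).map (ModuleCat.ofHom g))
  simp only [Functor.comp_map] at h1
  rw [reassoc_of% h1, ← Functor.map_comp, singleL_natural, Functor.map_comp]

variable {q : PrimeSpectrum A} {N₀ N N' : Type u} [AddCommGroup N₀] [Module A N₀] [Module.Finite A N₀]
  [AddCommGroup N] [Module A N] [Module.Finite A N] [AddCommGroup N'] [Module A N'] [Module.Finite A N']

/-- The criterion at a prime of `A`. -/
theorem map_eq_zero_at (hω : Dual.IsDualizing A ω) (g₀ : N →ₗ[A] N₀) (g : N →ₗ[A] N') (i : ℕ)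
    (h : ∀ φ : Dual.inD A N' ⟶ ω⟦-dimFun hω q - i⟧, ∃ t ∉ q.asIdeal, ∃ ψ,
      pre ω g₀ (-dimFun hω q - i) ψ = t • pre ω g (-dimFun hω q - i) φ)
    (z : LocCoh.H (maximalIdeal (Localization.AtPrime q.asIdeal)) i (LocalizedModule q.asIdeal.primeCompl N))
    (hz : ((localCohomology (maximalIdeal (Localization.AtPrime q.asIdeal)) i).map
      (ModuleCat.ofHom (LocalizedModule.map q.asIdeal.primeCompl g₀))).hom z = 0) :
    ((localCohomology (maximalIdeal (Localization.AtPrime q.asIdeal)) i).map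
      (ModuleCat.ofHom (LocalizedModule.map q.asIdeal.primeCompl g))).hom z = 0 := by
  set S := q.asIdeal.primeCompl with hS
  haveI : Module.Flat A (Localization.AtPrime q.asIdeal) := IsLocalization.flat _ q.asIdeal.primeCompl
  obtain ⟨a, b, hab⟩ := hω.finite_injective_dimension
  haveI := isGE_of_lower a fun M _ _ i hi => hab M i (Or.inl hi)
  let B := Localization.AtPrime q.asIdeal
  have hB := isDualizing_shift (FlatBC.isDualizing_L_localization (B := B) q.asIdeal.primeCompl hω) (-dimFun hω q)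
  haveI := hB.isNoetherianRing
  haveI : Module.Finite B (LocalizedModule S N') :=
    Module.Finite.of_isLocalizedModule S (LocalizedModule.mkLinearMap S N')
  refine map_eq_zero_of_range_le hB (isNormalized_at hω q) _ _ i (fun φ => ?_) z hz
  set l := -dimFun hω q - (i : ℤ) with hl
  let sh : ∀ (P : Type u) [AddCommGroup P] [Module B P],
      (Dual.inD B P ⟶ (Wq hω q)⟦(-(i : ℤ))⟧) ≃ₗ[B] (Dual.inD B P ⟶ ((FlatBC.L A B).obj ω)⟦l⟧) :=
    fun P _ _ => homShiftEquiv _ _ (-dimFun hω q) (-(i : ℤ)) l (by ring)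
  have hsh : ∀ (P P' : Type u) [AddCommGroup P] [Module B P] [AddCommGroup P'] [Module B P']
      (k : P →ₗ[B] P') (y : Dual.inD B P' ⟶ (Wq hω q)⟦(-(i : ℤ))⟧),
      sh P (pre (Wq hω q) k (-(i : ℤ)) y) = pre ((FlatBC.L A B).obj ω) k l (sh P' y) := by
    intro P P' _ _ _ _ k y
    change (𝟙 _ ≫ (sg B).map (ModuleCat.ofHom k) ≫ y) ≫ _ = (sg B).map (ModuleCat.ofHom k) ≫ (𝟙 _ ≫ y) ≫ _
    simp only [Category.id_comp, Category.assoc]
  let T : ∀ (P : Type u) [AddCommGroup P] [Module A P], (B ⊗[A] P) ≃ₗ[B] LocalizedModule S P :=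
    fun P _ _ => (LocalizedModule.equivTensorProduct S P).symm
  have hT : ∀ (P P' : Type u) [AddCommGroup P] [Module A P] [AddCommGroup P'] [Module A P'] (k : P →ₗ[A] P'),
      (LocalizedModule.map S k).comp (T P).toLinearMap = (T P').toLinearMap.comp (k.baseChange B) := by
    intro P P' _ _ _ _ k
    refine TensorProduct.AlgebraTensorModule.curry_injective (LinearMap.ext_ring (LinearMap.ext fun p => ?_))
    change LocalizedModule.map S k (T P ((1 : B) ⊗ₜ[A] p)) = T P' ((1 : B) ⊗ₜ[A] k p)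
    exact (congrArg (LocalizedModule.map S k) (LocalizedModule.equivTensorProduct_symm_apply_tmul_one S p)).trans
      ((LocalizedModule.map_mk S k p 1).trans
        (LocalizedModule.equivTensorProduct_symm_apply_tmul_one S (k p)).symm)
  let Φ : ∀ (P : Type u) [AddCommGroup P] [Module A P] [Module.Finite A P],
      (Dual.inD A P ⟶ ω⟦l⟧) → (Dual.inD B (LocalizedModule S P) ⟶ (Wq hω q)⟦(-(i : ℤ))⟧) :=
    fun P _ _ _ x => (sh _).symm ((preEquiv _ (T P) l).symm (FlatBC.homEquiv (B := B) a P l ((1 : B) ⊗ₜ[A] x)))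
  have hΦ : ∀ (P P' : Type u) [AddCommGroup P] [Module A P] [Module.Finite A P] [AddCommGroup P'] [Module A P']
      [Module.Finite A P'] (k : P →ₗ[A] P') (x : Dual.inD A P' ⟶ ω⟦l⟧),
      pre (Wq hω q) (LocalizedModule.map S k) (-(i : ℤ)) (Φ P' x) = Φ P (pre ω k l x) := by
    intro P P' _ _ _ _ _ _ k x
    apply (sh _).injective
    rw [hsh, LinearEquiv.apply_symm_apply, LinearEquiv.apply_symm_apply]
    apply (preEquiv ((FlatBC.L A B).obj ω) (T P) l).injective
    rw [LinearEquiv.apply_symm_apply, homEquiv_natural]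
    change pre _ (T P).toLinearMap l (pre _ (LocalizedModule.map S k) l _) = _
    rw [← LinearMap.comp_apply, ← pre_comp, hT, pre_comp, LinearMap.comp_apply]
    exact congrArg _ ((preEquiv ((FlatBC.L A B).obj ω) (T P') l).apply_symm_apply _)
  obtain ⟨x, s, hxs⟩ : ∃ (x : Dual.inD A N' ⟶ ω⟦l⟧) (s : S), algebraMap A B s • φ = Φ N' x := by
    obtain ⟨w, hw⟩ : ∃ w, w = (FlatBC.homEquiv (B := B) a N' l).symm ((preEquiv _ (T N') l) (sh _ φ)) := ⟨_, rfl⟩
    obtain ⟨y, rfl⟩ := (LocalizedModule.equivTensorProduct S (Dual.inD A N' ⟶ ω⟦l⟧)).surjective w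
    induction y using LocalizedModule.induction_on with
    | h x s =>
      refine ⟨x, s, ?_⟩
      apply (sh _).injective
      apply (preEquiv ((FlatBC.L A B).obj ω) (T N') l).injective
      apply (FlatBC.homEquiv (B := B) a N' l).symm.injective
      have h1 : algebraMap A B s • LocalizedModule.equivTensorProduct S (Dual.inD A N' ⟶ ω⟦l⟧)
          (LocalizedModule.mk x s) = (1 : B) ⊗ₜ[A] x := by
        rw [← map_smul, algebraMap_smul, LocalizedModule.smul'_mk, ← Submonoid.smul_def,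
          LocalizedModule.mk_cancel]
        simp [LocalizedModule.equivTensorProduct_apply_mk, Localization.mk_one]
      simp only [map_smul]
      refine ((congrArg (algebraMap A B (s : A) • ·) hw.symm).trans h1).trans ?_
      refine Eq.symm ((congrArg (fun v => (FlatBC.homEquiv (B := B) a N' l).symm (preEquiv _ (T N') l v))
        ((sh _).apply_symm_apply _)).trans ?_)
      exact (congrArg (FlatBC.homEquiv (B := B) a N' l).symm
        ((preEquiv ((FlatBC.L A B).obj ω) (T N') l).apply_symm_apply _)).trans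
          ((FlatBC.homEquiv (B := B) a N' l).symm_apply_apply _)
  obtain ⟨t, ht, ψ, hψ⟩ := h x
  obtain ⟨u, hu⟩ := IsLocalization.map_units B (⟨t, ht⟩ * s : S)
  refine ⟨(↑u⁻¹ : B) • Φ N₀ ψ, ?_⟩
  have hΦs : Φ N (t • pre ω g l x) = algebraMap A B t • Φ N (pre ω g l x) := by
    simp only [Φ, TensorProduct.tmul_smul]
    rw [← algebraMap_smul B t, map_smul, map_smul, map_smul]
  rw [map_smul, hΦ, hψ, hΦs, ← hΦ, ← hxs, map_smul, smul_smul, smul_smul]
  have hu' : (↑u⁻¹ : B) * (algebraMap A B t * algebraMap A B s) = 1 := by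
    rw [← map_mul, show algebraMap A B (t * s) = (u : B) from hu.symm, Units.inv_mul]
  rw [mul_assoc, hu', one_smul]

end Localization

end Groth.L04.DualCrit
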