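import Groth.Agent.L04.Formal.CompletionTop
import Groth.Agent.L29.Dual.InjRep
import Groth.Agent.L04.LC.Annihilate

/-!
# The colimit of `Ext(Iⁿ M, ω)` near a prime
-/

set_option autoImplicit false
set_option linter.style.haveILetI false
set_option backward.isDefEq.respectTransparency false
universe u

open CategoryTheory CategoryTheory.Limits IsLocalRing

attribute [local instance] HasDerivedCategory.standard

noncomputable section

namespace Groth.L04.ExtLim

open Groth.L29 Groth.L29.HomD Groth.L04.CplTop Groth.L04.LC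

variable {A : Type u} [CommRing A] [IsNoetherianRing A] (I : Ideal A)

/-- The map induced on `H^i_I`. -/
abbrev hmap (i : ℕ) {X Y : Type u} [AddCommGroup X] [Module A X] [AddCommGroup Y] [Module A Y]
    (f : X →ₗ[A] Y) : LocCoh.H I i X →ₗ[A] LocCoh.H I i Y :=
  ((localCohomology I i).map (ModuleCat.ofHom f)).hom

theorem subsingleton_H_of_equiv {X Y : Type u} [AddCommGroup X] [Module A X] [AddCommGroup Y] [Module A Y]
    (e : X ≃ₗ[A] Y) (i : ℕ) [Subsingleton (LocCoh.H I i Y)] : Subsingleton (LocCoh.H I i X) :=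
  ((localCohomology I i).mapIso e.toModuleIso).toLinearEquiv.toEquiv.subsingleton

/-- `Hom(M, J)` has no higher local cohomology. -/
theorem subsingleton_H_hom (J : Type u) [AddCommGroup J] [Module A J] (hJ : Module.Injective A J) :
    ∀ (c : ℕ) (M : Type u) [AddCommGroup M] [Module A M] [Module.Finite A M],
      Subsingleton (LocCoh.H I (c + 1) (M →ₗ[A] J)) := by
  intro c
  induction c using Nat.strong_induction_on with
  | _ c ih =>
  intro M _ _ _
  obtain ⟨n, p, hp⟩ := Module.Finite.exists_fin' A M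
  let K := LinearMap.ker p
  haveI : Module.Finite A K := Module.Finite.of_fg (IsNoetherian.noetherian K)
  have hex : Function.Exact (LinearMap.lcomp A J p) (LinearMap.lcomp A J K.subtype) :=
    LinearMap.exact_lcomp_of_exact_of_surjective J p.exact_subtype_ker_map hp
  have hsurj : Function.Surjective (LinearMap.lcomp A J K.subtype) := fun φ =>
    Module.Baer.extension_property (Module.Baer.of_injective hJ) K.subtype Subtype.val_injective φ
  have hS := ses_shortExact (LinearMap.lcomp A J p) (LinearMap.lcomp A J K.subtype)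
    (fun a b h => LinearMap.ext fun x => by
      obtain ⟨y, rfl⟩ := hp x
      exact LinearMap.congr_fun h y) hsurj hex
  haveI := hJ
  haveI : Subsingleton (LocCoh.H I (c + 1) ((Fin n → A) →ₗ[A] J)) := by
    haveI := subsingleton_H_injective I (Fin n → J) inferInstance c
    exact subsingleton_H_of_equiv I ((LinearMap.lsum A (fun _ : Fin n => A) A).symm.trans
      (LinearEquiv.piCongrRight fun _ => LinearMap.ringLmapEquivSelf A A J)) (c + 1)
  refine subsingleton_of_forall_eq 0 fun z => ?_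
  obtain ⟨x, rfl⟩ := (H_exact₁ I hS c z).1 (Subsingleton.elim _ _)
  suffices hx : ∃ y, ((localCohomology I c).map (ModuleCat.ofHom (LinearMap.lcomp A J K.subtype))).hom y = x from
    (H_exact₃ I hS c x).2 hx
  cases c with
  | succ c =>
    haveI := ih c c.lt_succ_self K
    exact ⟨0, (map_zero _).trans (Subsingleton.elim _ _)⟩
  | zero =>
    obtain ⟨m, hm⟩ := (H0Equiv I (ModuleCat.of A (K →ₗ[A] J)) x).2
    set φ := evalZero I (ModuleCat.of A (K →ₗ[A] J)) x with hφ
    obtain ⟨k, hk⟩ := I.exists_pow_inf_eq_pow_smul (N := K)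
    let N : Submodule A (Fin n → A) := I ^ (m + k) • ⊤
    have hker : N.comap K.subtype ≤ LinearMap.ker (show K →ₗ[A] J from φ) := by
      intro v hv
      have hv' : (v : Fin n → A) ∈ I ^ ((m + k) - k) • (I ^ k • (⊤ : Submodule A (Fin n → A)) ⊓ K) :=
        (hk (m + k) (Nat.le_add_left k m)) ▸ (⟨hv, v.2⟩ : (v : Fin n → A) ∈ N ⊓ K)
      rw [Nat.add_sub_cancel] at hv'
      have hv'' : (v : Fin n → A) ∈ (I ^ m • (⊤ : Submodule A K)).map K.subtype := by
        rw [Submodule.map_smul'', Submodule.map_top, Submodule.range_subtype]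
        exact Submodule.smul_mono le_rfl inf_le_right hv'
      obtain ⟨w, hw, hwv⟩ := hv''
      obtain rfl : w = v := Subtype.ext hwv
      rw [LinearMap.mem_ker]
      refine Submodule.smul_induction_on (p := fun w => (show K →ₗ[A] J from φ) w = 0) hw (fun r hr u _ => ?_)
        (fun a b ha hb => ?_)
      · rw [map_smul]
        exact LinearMap.congr_fun (hm r hr) u
      · rw [map_add, ha, hb, add_zero]
    obtain ⟨ψ, hψ⟩ := Module.Baer.extension_property (Module.Baer.of_injective hJ)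
      ((N.comap K.subtype).mapQ N K.subtype le_rfl)
      (LinearMap.ker_eq_bot.1 (eq_bot_iff.2 (by
        rintro ⟨v⟩ hv
        exact (Submodule.mem_bot A).2 ((Submodule.Quotient.mk_eq_zero _).2 ((Submodule.Quotient.mk_eq_zero N).1 hv)))))
      ((N.comap K.subtype).liftQ φ hker)
    let Φ : (Fin n → A) →ₗ[A] J := ψ.comp N.mkQ
    refine ⟨(H0Equiv I (ModuleCat.of A ((Fin n → A) →ₗ[A] J))).symm ⟨Φ, m + k, fun r hr => ?_⟩,
      evalZero_injective I _ ?_⟩
    · refine LinearMap.ext fun v => ?_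
      change r • ψ (N.mkQ v) = 0
      rw [← map_smul, ← map_smul, Submodule.mkQ_apply,
        (Submodule.Quotient.mk_eq_zero N).2 (Submodule.smul_mem_smul hr trivial), map_zero]
    · rw [evalZero_natural, ← H0Equiv_apply, LinearEquiv.apply_symm_apply, ← hφ]
      exact LinearMap.ext fun v => LinearMap.congr_fun hψ (Submodule.Quotient.mk v)

variable {I}

theorem vq_of_equiv {q : PrimeSpectrum A} {X Y : Type u} [AddCommGroup X] [Module A X] [AddCommGroup Y]
    [Module A Y] (e : X ≃ₗ[A] Y) (h : Vq q Y) : Vq q X := fun x => by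
  obtain ⟨t, ht, htx⟩ := h (e x)
  exact ⟨t, ht, e.injective (by rw [map_smul, htx, map_zero])⟩

theorem vq_H_of_equiv {q : PrimeSpectrum A} {X Y : Type u} [AddCommGroup X] [Module A X] [AddCommGroup Y]
    [Module A Y] (e : X ≃ₗ[A] Y) (i : ℕ) (h : Vq q (LocCoh.H I i Y)) : Vq q (LocCoh.H I i X) :=
  vq_of_equiv ((localCohomology I i).mapIso e.toModuleIso).toLinearEquiv h

/-- Torsion near `q` from the support. -/
theorem exists_smul_pow_eq_zero (q : PrimeSpectrum A) (E : Type u) [AddCommGroup E] [Module A E]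
    [Module.Finite A E] (h : ∀ P ∈ Module.support A E, P ≤ q → I ≤ P.asIdeal) (x : E) :
    ∃ (t : A) (m : ℕ), t ∉ q.asIdeal ∧ ∀ r ∈ I ^ m, r • t • x = 0 := by
  classical
  let N : Ideal A := LinearMap.ker (LinearMap.toSpanSingleton A E x)
  let P := ((Ideal.finite_minimalPrimes_of_isNoetherianRing A N).toFinset).filter fun p => ¬ p ≤ q.asIdeal
  have hP : ∀ p : P, ∃ c, c ∈ p.1 ∧ c ∉ q.asIdeal := fun p =>
    SetLike.not_le_iff_exists.1 (Finset.mem_filter.1 p.2).2
  choose c hc hcq using hP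
  let t := ∏ p, c p
  have ht : t ∉ q.asIdeal := fun hmem => by
    obtain ⟨p, -, hp⟩ := q.isPrime.prod_mem_iff.1 hmem
    exact hcq p hp
  have hle : Ideal.span {t} * I ≤ N.radical := by
    rw [← Ideal.sInf_minimalPrimes]
    refine le_sInf fun p hp => ?_
    by_cases hpq : p ≤ q.asIdeal
    · refine le_trans Ideal.mul_le_right ?_
      refine h ⟨p, hp.1.1⟩ ?_ hpq
      rw [Module.support_eq_zeroLocus]
      intro r hr
      refine hp.1.2 ?_
      exact Module.mem_annihilator.1 hr x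
    · refine le_trans ?_ ((Ideal.span_singleton_le_iff_mem (I := p) (x := t)).2 ?_)
      · exact Ideal.mul_le_left
      have hmem : p ∈ P := Finset.mem_filter.2 ⟨(Set.Finite.mem_toFinset _).2 hp, hpq⟩
      exact p.mem_of_dvd (Finset.dvd_prod_of_mem c (Finset.mem_univ ⟨p, hmem⟩)) (hc ⟨p, hmem⟩)
  obtain ⟨m, hm⟩ := Ideal.exists_pow_le_of_le_radical_of_fg hle (IsNoetherian.noetherian _)
  refine ⟨t ^ m, m, fun h' => ht (q.isPrime.mem_of_pow_mem m h'), fun r hr => ?_⟩
  rw [← mul_smul]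
  have : r * t ^ m ∈ N := hm (by
    rw [mul_pow, mul_comm r]
    exact Ideal.mul_mem_mul (Ideal.pow_mem_pow (Ideal.mem_span_singleton_self t) m) hr)
  exact this

section Cochains

variable (J : DRing.Cx A) (M : Type u) [AddCommGroup M] [Module A M]

/-- The differential of `Hom(M, J)`. -/
abbrev D (i j : ℤ) : (ModuleCat.of A M ⟶ J.X i) →ₗ[A] (ModuleCat.of A M ⟶ J.X j) :=
  Linear.rightComp A (ModuleCat.of A M) (J.d i j)

/-- Cocycles. -/
abbrev Z (j k : ℤ) : Submodule A (ModuleCat.of A M ⟶ J.X j) := LinearMap.ker (D J M j k)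

/-- Coboundaries. -/
abbrev Bd (i j : ℤ) : Submodule A (ModuleCat.of A M ⟶ J.X j) := LinearMap.range (D J M i j)

/-- Coboundaries inside the cocycles. -/
abbrev BZ (i j k : ℤ) : Submodule A (Z J M j k) := (Bd J M i j).comap (Z J M j k).subtype

theorem bd_le_z (i j k : ℤ) : Bd J M i j ≤ Z J M j k := by
  rintro _ ⟨g, rfl⟩
  change (g ≫ J.d i j) ≫ J.d j k = 0
  rw [Category.assoc, J.d_comp_d, comp_zero]

/-- Cohomology of `Hom(M, J)` in the derived category. -/
theorem nonempty_equiv [J.IsKInjective] {W : Dual.D A} (e : DRing.toD J ≅ W) (j : ℤ) :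
    Nonempty ((Z J M j (j + 1) ⧸ BZ J M (j - 1) j (j + 1)) ≃ₗ[A] (Dual.inD A M ⟶ W⟦j⟧)) := by
  let T := (HM J (ModuleCat.of A M)).sc' (j - 1) j (j + 1)
  have hT : BZ J M (j - 1) j (j + 1) = LinearMap.range T.moduleCatToCycles := by
    ext z
    constructor
    · rintro ⟨g, hg⟩
      exact ⟨g, Subtype.ext hg⟩
    · rintro ⟨g, rfl⟩
      exact ⟨g, rfl⟩
  let e1 : (HM J (ModuleCat.of A M)).homology j ≅ ModuleCat.of A (LinearMap.ker T.g.hom ⧸ LinearMap.range T.moduleCatToCycles) :=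
    (HM J (ModuleCat.of A M)).homologyIsoSc' (j - 1) j (j + 1) (by simp) (by simp) ≪≫ T.moduleCatHomologyIso
  exact ⟨(Submodule.quotEquivOfEq _ _ hT).trans (e1.toLinearEquiv.symm.trans
    ((((DerivedCategory.homologyFunctorFactors (ModuleCat.{u} A) j).app
      (HM J (ModuleCat.of A M))).toLinearEquiv.symm).trans
        ((homologyEquiv (ModuleCat.of A M) J j).trans
          (Linear.homCongr A (Iso.refl _) ((shiftFunctor (Dual.D A) j).mapIso e)))))⟩

variable {q : PrimeSpectrum A} [Module.Finite A M] (hJ : DRing.TermwiseInjective J)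

include hJ in
theorem subsingleton_H_cochains (j : ℤ) (c : ℕ) :
    Subsingleton (LocCoh.H I (c + 1) (ModuleCat.of A M ⟶ J.X j)) :=
  haveI := subsingleton_H_hom I (J.X j) (hJ j) c M
  subsingleton_H_of_equiv I ModuleCat.homLinearEquiv (c + 1)

include hJ in
theorem vq_bd (i j : ℤ) (c : ℕ) (h : Vq q (LocCoh.H I (c + 2) (Z J M i j))) :
    Vq q (LocCoh.H I (c + 1) (Bd J M i j)) := by
  have hS := ses_shortExact (Z J M i j).subtype (D J M i j).rangeRestrict Subtype.val_injective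
    (D J M i j).surjective_rangeRestrict (LinearMap.exact_iff.2 (by
      rw [LinearMap.ker_rangeRestrict, Submodule.range_subtype]))
  haveI := subsingleton_H_cochains (I := I) J M hJ i c
  intro x
  obtain ⟨t, ht, htx⟩ := h (Hδ I hS (c + 1) x)
  refine ⟨t, ht, ?_⟩
  obtain ⟨y, hy⟩ := (H_exact₃ I hS (c + 1) (t • x)).1 ((map_smul _ t x).trans htx)
  exact hy.symm.trans ((congrArg _ (Subsingleton.elim y 0)).trans (map_zero _))

theorem vq_z (i j k : ℤ) (c : ℕ) (hB : Vq q (LocCoh.H I c (Bd J M i j)))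
    (hE : Vq q (LocCoh.H I c (Z J M j k ⧸ BZ J M i j k))) : Vq q (LocCoh.H I c (Z J M j k)) := by
  have hS := ses_shortExact (BZ J M i j k).subtype (BZ J M i j k).mkQ Subtype.val_injective
    (Submodule.mkQ_surjective _) (LinearMap.exact_subtype_mkQ _)
  have hB' : Vq q (LocCoh.H I c (BZ J M i j k)) :=
    vq_H_of_equiv (Submodule.comapSubtypeEquivOfLe (bd_le_z J M i j k)) c hB
  intro x
  obtain ⟨t, ht, htx⟩ := hE (hmap I c (BZ J M i j k).mkQ x)
  obtain ⟨y, hy⟩ := (H_exact₂ I hS c (t • x)).1 ((map_smul _ t x).trans htx)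
  obtain ⟨t', ht', hty⟩ := hB' y
  refine ⟨t' * t, fun h => (q.isPrime.mem_or_mem h).elim ht' ht, ?_⟩
  rw [mul_smul, ← hy]
  exact (map_smul _ t' y).symm.trans ((congrArg _ hty).trans (map_zero _))

include hJ in
theorem vq_z_of_E {d : ℕ} (hcd : LocCoh.CdLE A I d)
    (hE : ∀ a : ℕ, Vq q (LocCoh.H I (a + 1)
      (Z J M (-(a : ℤ)) (-(a : ℤ) + 1) ⧸ BZ J M (-(a : ℤ) - 1) (-(a : ℤ)) (-(a : ℤ) + 1)))) (a : ℕ) :
    Vq q (LocCoh.H I (a + 1) (Z J M (-(a : ℤ)) (-(a : ℤ) + 1))) := by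
  suffices h : ∀ (F a : ℕ), d ≤ a + F → Vq q (LocCoh.H I (a + 1) (Z J M (-(a : ℤ)) (-(a : ℤ) + 1))) from
    h d a (Nat.le_add_left d a)
  intro F
  induction F with
  | zero =>
    intro a ha x
    haveI := hcd (Z J M (-(a : ℤ)) (-(a : ℤ) + 1)) (a + 1) (by omega)
    exact ⟨1, fun h => q.isPrime.ne_top ((Ideal.eq_top_iff_one _).2 h), Subsingleton.elim _ _⟩
  | succ F ih =>
    intro a ha
    refine vq_z J M _ _ _ (a + 1) ?_ (hE a)
    refine vq_bd J M hJ _ _ a ?_
    have h := ih (a + 1) (by omega)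
    rw [show (-((a + 1 : ℕ) : ℤ)) = -(a : ℤ) - 1 by omega] at h
    rw [show (-(a : ℤ) - 1 + 1) = -(a : ℤ) by omega] at h
    exact h

variable {M}

include hJ in
/-- Cocycles on `Iⁿ M` extend after shrinking. -/
theorem exists_cycle (hZ : Vq q (LocCoh.H I 1 (Z J M 0 1))) (n : ℕ)
    (f : ModuleCat.of A ↥(I ^ n • (⊤ : Submodule A M)) ⟶ J.X 0) (hf : f ≫ J.d 0 1 = 0) :
    ∃ (t : A) (k : ℕ) (_ : n ≤ k) (c : ModuleCat.of A M ⟶ J.X 0), t ∉ q.asIdeal ∧ c ≫ J.d 0 1 = 0 ∧
      ∀ (x : M) (_ : x ∈ I ^ k • (⊤ : Submodule A M)) (hx' : x ∈ I ^ n • (⊤ : Submodule A M)),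
        c.hom x = t • f.hom ⟨x, hx'⟩ := by
  obtain ⟨F₀, hF₀⟩ := Module.Baer.extension_property (Module.Baer.of_injective (hJ 0))
    (I ^ n • (⊤ : Submodule A M)).subtype Subtype.val_injective f.hom
  let F : ModuleCat.of A M ⟶ J.X 0 := ModuleCat.ofHom F₀
  have hFx : ∀ (x : M) (hx : x ∈ I ^ n • (⊤ : Submodule A M)), F.hom x = f.hom ⟨x, hx⟩ := fun x hx =>
    LinearMap.congr_fun hF₀ ⟨x, hx⟩
  let b : Bd J M 0 1 := ⟨D J M 0 1 F, LinearMap.mem_range_self _ F⟩
  have hb : ∀ r ∈ I ^ n, r • b = 0 := fun r hr => Subtype.ext (ModuleCat.hom_ext (LinearMap.ext fun (x : M) => by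
    change r • (J.d 0 1).hom (F.hom x) = 0
    rw [← map_smul, ← map_smul, hFx (r • x) (Submodule.smul_mem_smul hr trivial)]
    exact ModuleCat.hom_ext_iff.1 hf |> fun h => LinearMap.congr_fun h _))
  have hS := ses_shortExact (Z J M 0 1).subtype (D J M 0 1).rangeRestrict Subtype.val_injective
    (D J M 0 1).surjective_rangeRestrict (LinearMap.exact_iff.2 (by
      rw [LinearMap.ker_rangeRestrict, Submodule.range_subtype]))
  let z := (H0Equiv I (ModuleCat.of A (Bd J M 0 1))).symm ⟨b, n, hb⟩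
  obtain ⟨t, ht, htz⟩ := hZ (Hδ I hS 0 z)
  obtain ⟨y, hy⟩ := (H_exact₃ I hS 0 (t • z)).1 ((map_smul _ t z).trans htz)
  obtain ⟨m, hm⟩ := (H0Equiv I (ModuleCat.of A (ModuleCat.of A M ⟶ J.X 0)) y).2
  set G : ModuleCat.of A M ⟶ J.X 0 := evalZero I (ModuleCat.of A (ModuleCat.of A M ⟶ J.X 0)) y with hG
  have hdG : D J M 0 1 G = t • D J M 0 1 F := by
    have h1 := congrArg (evalZero I (ModuleCat.of A (Bd J M 0 1))) hy
    rw [evalZero_natural, map_smul, show evalZero I (ModuleCat.of A (Bd J M 0 1)) z = b from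
      congrArg Subtype.val ((H0Equiv I (ModuleCat.of A (Bd J M 0 1))).apply_symm_apply _)] at h1
    exact congrArg Subtype.val h1
  refine ⟨t, max n m, le_max_left n m, t • F - G, ht, ?_, fun x hx hx' => ?_⟩
  · change D J M 0 1 (t • F - G) = 0
    rw [map_sub, map_smul, hdG, sub_self]
  · have hGx : G.hom x = 0 := by
      clear hx'
      refine Submodule.smul_induction_on (p := fun x => G.hom x = 0) hx (fun r hr e _ => ?_) (fun a b ha hb => ?_)
      · rw [map_smul]
        exact congrArg (fun h => h.hom e) (hm r (Ideal.pow_le_pow_right (le_max_right n m) hr))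
      · rw [map_add, ha, hb, add_zero]
    change t • F.hom x - G.hom x = _
    rw [hGx, sub_zero, hFx x hx']

include hJ in
/-- A torsion cohomology class restricts to a coboundary. -/
theorem exists_boundary (hB : Vq q (LocCoh.H I 1 (Bd J M (-1) 0)))
    (htor : ∀ x : Z J M 0 1 ⧸ BZ J M (-1) 0 1, ∃ (t : A) (m : ℕ), t ∉ q.asIdeal ∧ ∀ r ∈ I ^ m, r • t • x = 0)
    (c : ModuleCat.of A M ⟶ J.X 0) (hc : c ≫ J.d 0 1 = 0) :
    ∃ (t : A) (k : ℕ) (g : ModuleCat.of A M ⟶ J.X (-1)), t ∉ q.asIdeal ∧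
      ∀ (x : M) (_ : x ∈ I ^ k • (⊤ : Submodule A M)), t • c.hom x = (J.d (-1) 0).hom (g.hom x) := by
  let cz : Z J M 0 1 := ⟨c, hc⟩
  obtain ⟨t₁, m, ht₁, hm⟩ := htor (Submodule.Quotient.mk cz)
  have hS := ses_shortExact (BZ J M (-1) 0 1).subtype (BZ J M (-1) 0 1).mkQ Subtype.val_injective
    (Submodule.mkQ_surjective _) (LinearMap.exact_subtype_mkQ _)
  let z := (H0Equiv I (ModuleCat.of A (Z J M 0 1 ⧸ BZ J M (-1) 0 1))).symm ⟨_, m, hm⟩
  obtain ⟨t, ht, htz⟩ := vq_H_of_equiv (Submodule.comapSubtypeEquivOfLe (bd_le_z J M (-1) 0 1)) 1 hB (Hδ I hS 0 z)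
  obtain ⟨y, hy⟩ := (H_exact₃ I hS 0 (t • z)).1 ((map_smul _ t z).trans htz)
  obtain ⟨k, hk⟩ := (H0Equiv I (ModuleCat.of A (Z J M 0 1)) y).2
  set w : Z J M 0 1 := evalZero I (ModuleCat.of A (Z J M 0 1)) y
  have hw : Submodule.Quotient.mk w = (Submodule.Quotient.mk ((t * t₁) • cz) : Z J M 0 1 ⧸ BZ J M (-1) 0 1) := by
    have h1 := congrArg (evalZero I (ModuleCat.of A (Z J M 0 1 ⧸ BZ J M (-1) 0 1))) hy
    rw [evalZero_natural, map_smul, show evalZero I _ z = t₁ • (Submodule.Quotient.mk cz : Z J M 0 1 ⧸ BZ J M (-1) 0 1) from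
      congrArg Subtype.val ((H0Equiv I (ModuleCat.of A (Z J M 0 1 ⧸ BZ J M (-1) 0 1))).apply_symm_apply _)] at h1
    rw [mul_smul, Submodule.Quotient.mk_smul, Submodule.Quotient.mk_smul]
    exact h1
  obtain ⟨g, hg⟩ := (Submodule.Quotient.eq _).1 hw.symm
  refine ⟨t * t₁, k, g, fun h => (q.isPrime.mem_or_mem h).elim ht ht₁, fun x hx => ?_⟩
  have h2 : (J.d (-1) 0).hom (g.hom x) = (t * t₁) • c.hom x - w.1.hom x := congrArg (fun h => h.hom x) hg
  have hwx : w.1.hom x = 0 := by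
    clear h2
    refine Submodule.smul_induction_on (p := fun x => w.1.hom x = 0) hx (fun r hr e _ => ?_) (fun a b ha hb => ?_)
    · rw [map_smul]
      exact congrArg (fun h => h.1.hom e) (hk r hr)
    · rw [map_add, ha, hb, add_zero]
  rw [h2, hwx, sub_zero]

end Cochains

end Groth.L04.ExtLim
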