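import Groth.Agent.L04.Formal.ExtColimit
import Groth.Agent.L04.Formal.DualCriterion
import Groth.Agent.L04.LC.InverseSystem

/-!
# `H^i_T(Iⁿ M)` is pro-zero in the stable range

Under the hypotheses of `Hyp` the system is pro-zero also in degree `s + 1`: a prime outside `V(I)` in
the support of the dual in that degree would have depth `+` codimension at most `s + 1`, while an
intermediate prime in `V(I) ∖ T` forces the codimension to be at least two.
-/

set_option autoImplicit false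
set_option linter.style.haveILetI false
set_option backward.isDefEq.respectTransparency false
universe u

open CategoryTheory IsLocalRing

attribute [local instance] HasDerivedCategory.standard

noncomputable section

namespace Groth.L04.ProZero

open Groth.L29 Groth.L29.HomD Groth.L04.AnnihDual Groth.L04.CplTop Groth.L04.ExtLim

variable {A : Type u} [CommRing A] [IsNoetherianRing A] {ω : Dual.D A}
  (M : Type u) [AddCommGroup M] [Module A M] (I : Ideal A)

/-- The submodules `Iⁿ M`. -/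
abbrev sub (n : ℕ) : Submodule A M := I ^ n • (⊤ : Submodule A M)

/-- The inclusions. -/
abbrev inc {k m : ℕ} (h : m ≤ k) : ↥(sub M I k) →ₗ[A] ↥(sub M I m) :=
  Submodule.inclusion (Submodule.smul_mono_left (Ideal.pow_le_pow_right h))

/-- The two embeddings of modules. -/
def η (N : ModuleCat.{u} A) :
    Dual.inD A N ≅ DRing.toD ((CochainComplex.singleFunctor (ModuleCat.{u} A) 0).obj N) :=
  ((SingleFunctors.evaluation _ _ 0).mapIso (DerivedCategory.singleFunctorsPostcompQIso (ModuleCat.{u} A))).app N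

theorem η_natural {N N' : ModuleCat.{u} A} (g : N ⟶ N') :
    (sg A).map g ≫ (η N').hom =
      (η N).hom ≫ DerivedCategory.Q.map ((CochainComplex.singleFunctor (ModuleCat.{u} A) 0).map g) :=
  ((SingleFunctors.evaluation _ _ 0).mapIso
    (DerivedCategory.singleFunctorsPostcompQIso (ModuleCat.{u} A))).hom.naturality g

/-- The class of a cocycle. -/
def cls (J : DRing.Cx A) {W : Dual.D A} (e : DRing.toD J ≅ W) (N : ModuleCat.{u} A) :
    LinearMap.ker (Linear.rightComp A N (J.d 0 1)) →ₗ[A] (Dual.inD A N ⟶ W) :=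
  (Linear.homCongr A (η N).symm e).toLinearMap ∘ₗ cycleClass J N

theorem cls_apply (J : DRing.Cx A) {W : Dual.D A} (e : DRing.toD J ≅ W) (N : ModuleCat.{u} A)
    (f : LinearMap.ker (Linear.rightComp A N (J.d 0 1))) :
    cls J e N f = ((η N).hom ≫ DerivedCategory.Q.map (cycleHom J N f.1 f.2)) ≫ e.hom := rfl

theorem cls_surjective (J : DRing.Cx A) [J.IsKInjective] {W : Dual.D A} (e : DRing.toD J ≅ W)
    (N : ModuleCat.{u} A) : Function.Surjective (cls J e N) := fun φ => by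
  obtain ⟨f, hf⟩ := cycleClass_surjective J N ((η N).inv ≫ φ ≫ e.inv)
  refine ⟨f, ?_⟩
  change ((η N).hom ≫ cycleClass J N f) ≫ e.hom = φ
  rw [hf]
  simp

theorem cls_eq_zero (J : DRing.Cx A) [J.IsKInjective] {W : Dual.D A} (e : DRing.toD J ≅ W)
    (N : ModuleCat.{u} A) (f : LinearMap.ker (Linear.rightComp A N (J.d 0 1))) (g : N ⟶ J.X (-1))
    (h : g ≫ J.d (-1) 0 = f.1) : cls J e N f = 0 := by
  change ((η N).hom ≫ cycleClass J N f) ≫ e.hom = 0
  rw [(cycleClass_eq_zero_iff J N f).2 ⟨g, h⟩, Limits.comp_zero, Limits.zero_comp]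

theorem cls_natural (J : DRing.Cx A) {W : Dual.D A} (e : DRing.toD J ≅ W) {N N' : ModuleCat.{u} A}
    (g : N ⟶ N') (f : LinearMap.ker (Linear.rightComp A N' (J.d 0 1))) :
    (sg A).map g ≫ cls J e N' f = cls J e N ⟨g ≫ f.1, by
      change (g ≫ f.1) ≫ J.d 0 1 = 0
      rw [Category.assoc, show f.1 ≫ J.d 0 1 = 0 from f.2, Limits.comp_zero]⟩ := by
  have hc : (CochainComplex.singleFunctor (ModuleCat.{u} A) 0).map g ≫ cycleHom J N' f.1 f.2 =
      cycleHom J N (g ≫ f.1) (by rw [Category.assoc, show f.1 ≫ J.d 0 1 = 0 from f.2, Limits.comp_zero]) := by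
    refine HomologicalComplex.from_single_hom_ext ?_
    simp [cycleHom_f, CochainComplex.singleFunctor, CochainComplex.singleFunctors,
      HomologicalComplex.single_map_f_self]
  rw [cls_apply, cls_apply, ← hc, Functor.map_comp, ← Category.assoc, ← Category.assoc, ← Category.assoc,
    η_natural]

variable [Module.Finite A M] {I}

/-- The hypotheses, in terms of the dimension function. -/
structure Hyp (hω : Dual.IsDualizing A ω) (d s : ℕ) (T : Set (PrimeSpectrum A)) : Prop where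
  hcd : LocCoh.CdLE A I d
  hTI : ∀ q ∈ T, I ≤ q.asIdeal
  h4 : ∀ p q : PrimeSpectrum A, p ≤ q → q ∈ T → ¬ I ≤ p.asIdeal →
    (s : ℕ∞) < AlgKill.dep M p ∨ (2 ≤ dimFun hω p - dimFun hω q ∧
      ((s : ℕ∞) ≤ AlgKill.dep M p ∨
        ∀ m : ℕ, AlgKill.dep M p = m → ((d + s : ℕ) : ℤ) < m + (dimFun hω p - dimFun hω q)))
  h6 : ∀ q ∈ T, ∀ p' : PrimeSpectrum (Bootstrap.Bq I q), ¬ I.map (algebraMap A (Bootstrap.Bq I q)) ≤ p'.asIdeal →
    (∀ q' : PrimeSpectrum (Bootstrap.Bq I q), p' ≤ q' → I.map (algebraMap A (Bootstrap.Bq I q)) ≤ q'.asIdeal →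
      q'.asIdeal.IsMaximal) → (s : ℕ∞) < LocCoh.depth (Localization.AtPrime p'.asIdeal)
        (LocalizedModule p'.asIdeal.primeCompl (AdicCompletion (I.map (algebraMap A (Bootstrap.Aq q)))
          (LocalizedModule q.asIdeal.primeCompl M)))

variable {M}

theorem hyp_mk (hω : Dual.IsDualizing A ω) {d s : ℕ} {T : Set (PrimeSpectrum A)} (hcd : LocCoh.CdLE A I d)
    (hTI : T ⊆ PrimeSpectrum.zeroLocus (I : Set A))
    (h4 : ∀ p r q : PrimeSpectrum A, p ≤ r → r ≤ q → ¬ I ≤ p.asIdeal → I ≤ r.asIdeal → r ∉ T → q ∈ T →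
      (s : ℕ∞) ≤ AlgKill.dep M p ∨ ((d + s : ℕ) : WithBot ℕ∞) <
        (AlgKill.dep M p : WithBot ℕ∞) + Formal2.dimBetween A p.asIdeal q.asIdeal)
    (h6 : ∀ q ∈ T, ∀ p' : PrimeSpectrum (Bootstrap.Bq I q), ¬ I.map (algebraMap A (Bootstrap.Bq I q)) ≤ p'.asIdeal →
      (∀ q' : PrimeSpectrum (Bootstrap.Bq I q), p' ≤ q' → I.map (algebraMap A (Bootstrap.Bq I q)) ≤ q'.asIdeal →
        q'.asIdeal.IsMaximal) → (s : ℕ∞) < LocCoh.depth (Localization.AtPrime p'.asIdeal)
          (LocalizedModule p'.asIdeal.primeCompl (AdicCompletion (I.map (algebraMap A (Bootstrap.Aq q)))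
            (LocalizedModule q.asIdeal.primeCompl M)))) : Hyp M hω (I := I) d s T where
  hcd := hcd
  hTI q hq := hTI hq
  h6 := h6
  h4 p q hpq hq hp := by
    by_cases hr : ∀ r : PrimeSpectrum A, p ≤ r → r ≤ q → I ≤ r.asIdeal → r ∈ T
    · exact Or.inl (Bootstrap.lt_dep_of_six h6 hpq hp (hTI hq) hr)
    · push Not at hr
      obtain ⟨r, hpr, hrq, hIr, hrT⟩ := hr
      have h1 := dimFun_strictAnti hω (lt_of_le_of_ne hpr fun h => hp (h ▸ hIr))
      have h2 := dimFun_strictAnti hω (lt_of_le_of_ne hrq fun h => hrT (h ▸ hq))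
      refine Or.inr ⟨by omega, (h4 p r q hpr hrq hp hIr hrT hq).imp_right fun h => ?_⟩
      rw [AlgKill.dimBetween_eq hω p q hpq, ← krullDim_Icc hω p q hpq] at h
      exact (lt_depth_add_iff hω p q hpq (d + s) _).1 h

variable {hω : Dual.IsDualizing A ω} {d s : ℕ} {T : Set (PrimeSpectrum A)} (H : Hyp M hω (I := I) d s T)

omit [AddCommGroup M] [Module A M] [Module.Finite A M] in
/-- A nontrivial point near `V(I)` excludes `cd(A, I) = 0`. -/
theorem one_le_cd {p q : PrimeSpectrum A} {d : ℕ} (hcd : LocCoh.CdLE A I d) (hpq : p ≤ q) (hp : ¬ I ≤ p.asIdeal)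
    (hq : I ≤ q.asIdeal) : 1 ≤ d := by
  rcases Nat.eq_zero_or_pos d with rfl | h
  swap
  · exact h
  exfalso
  obtain ⟨a, haI, hap⟩ := SetLike.not_le_iff_exists.1 hp
  let N := A ⧸ p.asIdeal
  have h0 : ∀ j : ℕ, Subsingleton (LocCoh.H I j N) := fun j => by
    rcases Nat.eq_zero_or_pos j with rfl | hj
    · refine subsingleton_of_forall_eq 0 fun x => Groth.L04.LC.evalZero_injective I _ ?_
      rw [map_zero]
      obtain ⟨n, hn⟩ := (Groth.L04.LC.H0Equiv I (ModuleCat.of A N) x).2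
      obtain ⟨y, hy⟩ := Submodule.Quotient.mk_surjective p.asIdeal
        (Groth.L04.LC.evalZero I (ModuleCat.of A N) x)
      have h1 : a ^ n • (Submodule.Quotient.mk y : N) = 0 := by
        rw [hy]
        exact hn _ (Ideal.pow_mem_pow haI n)
      rw [← Submodule.Quotient.mk_smul, Submodule.Quotient.mk_eq_zero, smul_eq_mul] at h1
      rw [← hy, (Submodule.Quotient.mk_eq_zero _).2
        ((p.isPrime.mem_or_mem h1).resolve_left fun h => hap (p.isPrime.mem_of_pow_mem n h))]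
    · exact hcd N j hj
  have htop : LocCoh.idealDepth I N = ⊤ :=
    ENat.eq_top_iff_forall_ge.2 fun n => (Groth.L04.LC.le_idealDepth_iff_H I N n).2 fun j _ => h0 j
  have hne : I • (⊤ : Submodule A N) ≠ ⊤ := fun h => q.isPrime.ne_top ((Ideal.eq_top_iff_one _).2 (by
    have h1 : (Submodule.Quotient.mk 1 : N) ∈ I • (⊤ : Submodule A N) := by rw [h]; trivial
    rw [Ideal.smul_top_eq_map, Submodule.restrictScalars_mem] at h1
    have h2 : (1 : A) ∈ (I.map (Ideal.Quotient.mk p.asIdeal)).comap (Ideal.Quotient.mk p.asIdeal) := h1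
    rw [Ideal.comap_map_of_surjective _ Ideal.Quotient.mk_surjective, ← RingHom.ker_eq_comap_bot,
      Ideal.mk_ker] at h2
    exact sup_le hq (hpq : p.asIdeal ≤ q.asIdeal) h2))
  exact Groth.L04.idealDepth_ne_top hne htop

include H in
theorem exists_factor {q : PrimeSpectrum A} (hq : q ∈ T) (l : ℤ) (hl : -dimFun hω q - (s + 1 : ℕ) ≤ l)
    (n : ℕ) (φ : Dual.inD A ↥(sub M I n) ⟶ ω⟦l⟧) :
    ∃ (t : A) (k : ℕ) (hk : n ≤ k), t ∉ q.asIdeal ∧ t • pre ω (inc M I hk) l φ = 0 := by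
  obtain ⟨a₀, b₀, hab⟩ := hω.finite_injective_dimension
  haveI := isGE_of_lower a₀ fun M _ _ i hi => hab M i (Or.inl hi)
  haveI : DerivedCategory.IsGE (ω⟦l⟧) (a₀ - l) :=
    DerivedCategory.TStructure.t.isGE_shift ω a₀ l (a₀ - l) (by ring)
  obtain ⟨J, _, hJ, hJK, ⟨e⟩⟩ := exists_injRep (ω⟦l⟧) (a₀ - l)
  haveI := hJK
  have hEj : ∀ a : ℕ, Nonempty ((Z J M (-(a : ℤ)) (-(a : ℤ) + 1) ⧸ BZ J M (-(a : ℤ) - 1) (-(a : ℤ)) (-(a : ℤ) + 1))
      ≃ₗ[A] (Dual.inD A M ⟶ ω⟦l + -(a : ℤ)⟧)) := fun a => by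
    obtain ⟨e1⟩ := nonempty_equiv J M e (-(a : ℤ))
    exact ⟨e1.trans (homShiftEquiv _ ω l (-(a : ℤ)) _ rfl)⟩
  have hfinE : ∀ j : ℤ, Module.Finite A (Dual.inD A M ⟶ ω⟦j⟧) := fun j =>
    finite_hom ω (good_of_isDualizing hω) M j
  have hbound : ∀ (a : ℕ) (P : PrimeSpectrum A),
      P ∈ Module.support A (Dual.inD A M ⟶ ω⟦l + -(a : ℤ)⟧) →
      ∃ m : ℕ, AlgKill.dep M P = m ∧ (m : ℤ) + (dimFun hω P - dimFun hω q) ≤ -l + a - dimFun hω q := by
    intro a P hP
    obtain ⟨m, hm, hle⟩ := depth_of_mem_support hω P M _ hP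
    exact ⟨m, hm, by linarith⟩
  have hE : ∀ a : ℕ, Vq q (LocCoh.H I (a + 1)
      (Z J M (-(a : ℤ)) (-(a : ℤ) + 1) ⧸ BZ J M (-(a : ℤ) - 1) (-(a : ℤ)) (-(a : ℤ) + 1))) := by
    intro a
    obtain ⟨e1⟩ := hEj a
    rcases le_or_gt d a with hd | hd
    · intro x
      haveI := H.hcd (Z J M (-(a : ℤ)) (-(a : ℤ) + 1) ⧸ BZ J M (-(a : ℤ) - 1) (-(a : ℤ)) (-(a : ℤ) + 1)) (a + 1) (by omega)
      exact ⟨1, fun h => q.isPrime.ne_top ((Ideal.eq_top_iff_one _).2 h), Subsingleton.elim _ _⟩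
    haveI := hfinE (l + -(a : ℤ))
    haveI := Module.Finite.equiv e1.symm
    refine vq_H (M := M) hω (H.hTI q hq) (H.h6 q hq) _ (a + 1) a.succ_pos fun P hP hPq hPI => ?_
    obtain ⟨m, hm, hle⟩ := hbound a P (e1.support_eq ▸ hP)
    rcases H.h4 P q hPq hq hPI with h | ⟨-, h | h⟩
    · rw [hm] at h ⊢
      have hsm : s < m := by exact_mod_cast h
      push_cast at hl ⊢
      exact ⟨by omega, fun heq => absurd heq (by omega)⟩
    · rw [hm] at h ⊢
      have hsm : s ≤ m := by exact_mod_cast h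
      exact ⟨by push_cast at hl ⊢; omega, fun heq => by exact_mod_cast (show m ≤ s by push_cast at hl heq; omega)⟩
    · have := h m hm
      exfalso
      push_cast at hl this
      omega
  have hZ : Vq q (LocCoh.H I 1 (Z J M 0 1)) := by
    have h := vq_z_of_E J M hJ H.hcd hE 0
    simpa using h
  obtain ⟨f, rfl⟩ := cls_surjective J e (ModuleCat.of A ↥(sub M I n)) φ
  obtain ⟨t, k, hk, c, ht, hc, hcf⟩ := exists_cycle J hJ hZ n f.1 f.2
  have hcr : ∀ (K : ℕ) (hK : k ≤ K), t • (ModuleCat.ofHom (inc M I (hk.trans hK)) ≫ f.1) =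
      ModuleCat.ofHom (inc M I (Nat.zero_le K)) ≫ ModuleCat.ofHom (sub M I 0).subtype ≫ c := fun K hK =>
    ModuleCat.hom_ext (LinearMap.ext fun x => (hcf x.1 (Submodule.smul_mono_left (Ideal.pow_le_pow_right hK) x.2)
      (Submodule.smul_mono_left (Ideal.pow_le_pow_right (hk.trans hK)) x.2)).symm)
  have hkey : ∀ (K : ℕ) (hK : k ≤ K) (ψ : Dual.inD A ↥(sub M I 0) ⟶ ω⟦l⟧),
      ψ = cls J e (ModuleCat.of A ↥(sub M I 0)) ⟨ModuleCat.ofHom (sub M I 0).subtype ≫ c, by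
        change (ModuleCat.ofHom (sub M I 0).subtype ≫ c) ≫ J.d 0 1 = 0
        rw [Category.assoc, hc, Limits.comp_zero]⟩ →
      t • pre ω (inc M I (hk.trans hK)) l (cls J e _ f) = pre ω (inc M I (Nat.zero_le K)) l ψ := by
    rintro K hK ψ rfl
    refine (congrArg (t • ·) (cls_natural J e (ModuleCat.ofHom (inc M I (hk.trans hK))) f)).trans ?_
    refine ((map_smul (cls J e (ModuleCat.of A ↥(sub M I K))) t _).symm).trans ?_
    refine Eq.trans ?_ (cls_natural J e (ModuleCat.ofHom (inc M I (Nat.zero_le K))) _).symm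
    exact congrArg _ (Subtype.ext (hcr K hK))
  have hB : Vq q (LocCoh.H I 1 (Bd J M (-1) 0)) := by
    refine vq_bd J M hJ (-1) 0 0 ?_
    have h := vq_z_of_E J M hJ H.hcd hE 1
    simpa using h
  have htor : ∀ x : Z J M 0 1 ⧸ BZ J M (-1) 0 1,
      ∃ (t : A) (m : ℕ), t ∉ q.asIdeal ∧ ∀ r ∈ I ^ m, r • t • x = 0 := by
    obtain ⟨e1⟩ := hEj 0
    haveI := hfinE (l + -((0 : ℕ) : ℤ))
    haveI := Module.Finite.equiv e1.symm
    have h0 : ∀ x : Z J M (-((0 : ℕ) : ℤ)) (-((0 : ℕ) : ℤ) + 1) ⧸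
        BZ J M (-((0 : ℕ) : ℤ) - 1) (-((0 : ℕ) : ℤ)) (-((0 : ℕ) : ℤ) + 1),
        ∃ (t : A) (m : ℕ), t ∉ q.asIdeal ∧ ∀ r ∈ I ^ m, r • t • x = 0 := by
      refine exists_smul_pow_eq_zero q _ fun P hP hPq => ?_
      by_contra hPI
      obtain ⟨m, hm, hle⟩ := hbound 0 P (e1.support_eq ▸ hP)
      have hlt := dimFun_strictAnti hω (lt_of_le_of_ne hPq fun h => hPI (h ▸ H.hTI q hq))
      rcases H.h4 P q hPq hq hPI with h | ⟨h2, h | h⟩
      · rw [hm] at h
        have hsm : s < m := by exact_mod_cast h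
        push_cast at hle hl
        omega
      · rw [hm] at h
        have hsm : s ≤ m := by exact_mod_cast h
        push_cast at hle hl
        omega
      · have := h m hm
        have hd1 := one_le_cd H.hcd hPq hPI (H.hTI q hq)
        push_cast at hle this hl
        omega
    exact h0
  obtain ⟨t₂, k₂, g, ht₂, hg⟩ := exists_boundary J hJ hB htor c hc
  have hzero : t₂ • t • pre ω (inc M I (hk.trans (le_max_left k k₂))) l (cls J e _ f) = 0 := by
    refine (congrArg (t₂ • ·) (hkey (max k k₂) (le_max_left k k₂) _ rfl)).trans ?_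
    refine (congrArg (t₂ • ·) (cls_natural J e (ModuleCat.ofHom (inc M I (Nat.zero_le (max k k₂)))) _)).trans ?_
    refine ((map_smul (cls J e (ModuleCat.of A ↥(sub M I (max k k₂)))) t₂ _).symm).trans ?_
    refine cls_eq_zero J e _ _ (ModuleCat.ofHom (sub M I (max k k₂)).subtype ≫ g) ?_
    refine ModuleCat.hom_ext (LinearMap.ext fun x => ?_)
    exact (hg x.1 (Submodule.smul_mono_left (Ideal.pow_le_pow_right (le_max_right k k₂)) x.2)).symm
  have h0 : (t₂ * t) • pre ω (inc M I (hk.trans (le_max_left k k₂))) l (cls J e _ f) = 0 :=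
    (mul_smul t₂ t _).trans hzero
  exact ⟨t₂ * t, max k k₂, hk.trans (le_max_left k k₂), fun h => (q.isPrime.mem_or_mem h).elim ht₂ ht, h0⟩

variable (M I) in
/-- The kernels. -/
def ker₀ (ω : Dual.D A) (l : ℤ) (n : ℕ) : ℕ →o Submodule A (Dual.inD A ↥(sub M I n) ⟶ ω⟦l⟧) where
  toFun k := LinearMap.ker (pre ω (inc M I (Nat.le_add_right n k)) l)
  monotone' k k' h φ hφ := by
    have h1 := congrArg (pre ω (inc M I (Nat.add_le_add_left h n)) l) (LinearMap.mem_ker.1 hφ)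
    rw [← LinearMap.comp_apply, ← pre_comp, map_zero] at h1
    exact LinearMap.mem_ker.2 h1

include H in
/-- Uniform bounds. -/
theorem exists_bound : ∃ m' : ℕ → ℕ, (∀ n, n ≤ m' n) ∧ ∀ q ∈ T, ∀ (i : ℕ), i ≤ s + 1 →
    ∀ (n k : ℕ) (h : n ≤ k), m' n ≤ k → ∀ φ : Dual.inD A ↥(sub M I n) ⟶ ω⟦-dimFun hω q - i⟧,
      ∃ t ∉ q.asIdeal, t • pre ω (inc M I h) _ φ = 0 := by
  obtain ⟨lo, hi', hrange⟩ := hω.finite_injective_dimension
  haveI : ∀ n : ℕ, Module.Finite A ↥(sub M I n) := fun n => Module.Finite.of_fg (IsNoetherian.noetherian _)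
  have hfin : ∀ (l : ℤ) (n : ℕ), IsNoetherian A (Dual.inD A ↥(sub M I n) ⟶ ω⟦l⟧) := fun l n =>
    haveI := finite_hom ω (good_of_isDualizing hω) ↥(sub M I n) l
    inferInstance
  choose Nk hNk using fun (l : ℤ) (n : ℕ) => monotone_stabilizes_iff_noetherian.2 (hfin l n) (ker₀ M I ω l n)
  refine ⟨fun n => n + (Finset.Icc lo hi').sup (fun l => Nk l n), fun n => Nat.le_add_right _ _,
    fun q hq i hi n k h hk => ?_⟩
  replace hk : n + (Finset.Icc lo hi').sup (fun l => Nk l n) ≤ k := hk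
  set l := -dimFun hω q - (i : ℤ) with hl
  intro φ
  by_cases hlr : l ∈ Finset.Icc lo hi'
  swap
  · haveI := hrange ↥(sub M I n) l (by rw [Finset.mem_Icc] at hlr; omega)
    exact ⟨1, fun h => q.isPrime.ne_top ((Ideal.eq_top_iff_one _).2 h), by
      rw [Subsingleton.elim φ 0, map_zero, smul_zero]⟩
  have hbig : Nk l n ≤ (Finset.Icc lo hi').sup fun l => Nk l n := Finset.le_sup (f := fun l => Nk l n) hlr
  obtain ⟨k', rfl⟩ := Nat.exists_eq_add_of_le h
  clear_value l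
  obtain ⟨t, K, hK, ht, h1⟩ := exists_factor H hq l (by push_cast at hi ⊢; omega) n φ
  obtain ⟨K', rfl⟩ := Nat.exists_eq_add_of_le hK
  have hNkle : Nk l n ≤ k' := by omega
  refine ⟨t, ht, ?_⟩
  have hmem : t • φ ∈ ker₀ M I ω l n K' := LinearMap.mem_ker.2 ((map_smul _ t φ).trans h1)
  have hmem' : t • φ ∈ ker₀ M I ω l n k' := by
    rw [← hNk l n k' hNkle, hNk l n (max (Nk l n) K') (le_max_left _ _)]
    exact (ker₀ M I ω l n).monotone (le_max_right _ _) hmem
  exact (map_smul _ t φ).symm.trans (LinearMap.mem_ker.1 hmem')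

variable (T) in
theorem exists_krullDim_le (hω : Dual.IsDualizing A ω) : ∃ e : ℕ, Order.krullDim ↥T ≤ (e : WithBot ℕ∞) := by
  obtain ⟨b, c, hbc⟩ := dimFun_bounded hω
  refine ⟨(c - b).toNat, iSup_le fun l => ?_⟩
  have key : ∀ j (hj : j < l.length + 1), dimFun hω (l ⟨j, hj⟩).1 + j ≤ c := by
    intro j
    induction j with
    | zero => intro hj; simpa using (hbc (l ⟨0, hj⟩).1).2
    | succ j ih =>
      intro hj
      have h1 := ih (by omega)
      have hlt : (l ⟨j, by omega⟩).1 < (l ⟨j + 1, hj⟩).1 := l.step ⟨j, by omega⟩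
      have h2 := dimFun_strictAnti hω hlt
      push_cast
      omega
  have h1 := key l.length (by omega)
  have h2 := (hbc (l ⟨l.length, by omega⟩).1).1
  exact_mod_cast (show l.length ≤ (c - b).toNat by omega)

include H in
/-- The system `H^i_T(Iⁿ M)` is pro-zero for `i ≤ s + 1`. -/
theorem proZero (i : ℕ) (hi : i ≤ s + 1) (n : ℕ) : ∃ (m : ℕ), n ≤ m ∧ ∀ (k : ℕ) (h : n ≤ k), m ≤ k →
    (localCohomology.ofDiagram.{u, u} (Dual2.idealsInDiagram T) i).map (ModuleCat.ofHom (inc M I h)) = 0 := by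
  obtain ⟨m', hm', hb⟩ := exists_bound H
  obtain ⟨e, he⟩ := exists_krullDim_le T hω
  haveI : ∀ n : ℕ, Module.Finite A ↥(sub M I n) := fun n => Module.Finite.of_fg (IsNoetherian.noetherian _)
  refine ⟨m'^[e + 1] n, HTsys.le_iterate m' hm' (e + 1) n, fun k h hk => ?_⟩
  refine HTsys.HT_map_eq_zero_of_pointwise he (fun n => ↥(sub M I n)) (fun _ _ h => inc M I h)
    (fun _ _ _ _ _ => rfl) i m' hm' (fun p hp m k h hk z => ?_) n k h hk
  refine DualCrit.map_eq_zero_at hω (0 : ↥(sub M I k) →ₗ[A] ↥(sub M I m)) (inc M I h) i (fun ψ => ?_) z ?_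
  · obtain ⟨t, ht, h2⟩ := hb p hp i hi m k h hk ψ
    exact ⟨t, ht, 0, (map_zero _).trans h2.symm⟩
  · rw [map_zero, ModuleCat.ofHom_zero]
    obtain ⟨a, b, rfl⟩ := Groth.L04.LC.Hι_surjective _ i _ z
    rw [Groth.L04.LC.map_Hι, CategoryTheory.Abelian.Ext.mk₀_zero, CategoryTheory.Abelian.Ext.comp_zero, map_zero]

include H in
theorem main : (∀ i : ℕ, i ≤ s → ∀ n : ℕ, ∃ (m : ℕ) (hnm : n ≤ m), ∀ x : Dual2.HT T i ↥(sub M I m),
      (localCohomology.ofDiagram.{u, u} (Dual2.idealsInDiagram T) i).map (ModuleCat.ofHom (inc M I hnm)) x = 0) ∧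
    ∃ m₀ : ℕ, ∀ (m : ℕ) (hm : m₀ ≤ m), ∃ (m' : ℕ) (hm' : m ≤ m'), ∀ (k : ℕ) (hk : m' ≤ k),
      ∀ x : Dual2.HT T (s + 1) ↥(sub M I k),
        (localCohomology.ofDiagram.{u, u} (Dual2.idealsInDiagram T) (s + 1)).map
          (ModuleCat.ofHom (inc M I (hm.trans (hm'.trans hk)))) x = 0 →
        (localCohomology.ofDiagram.{u, u} (Dual2.idealsInDiagram T) (s + 1)).map
          (ModuleCat.ofHom (inc M I (hm'.trans hk))) x = 0 := by
  refine ⟨fun i hi n => ?_, 0, fun m hm => ?_⟩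
  · obtain ⟨m, hm, h⟩ := proZero H i (by omega) n
    exact ⟨m, hm, fun x => LinearMap.congr_fun (ModuleCat.hom_ext_iff.1 (h m hm le_rfl)) x⟩
  · obtain ⟨m', hm', h⟩ := proZero H (s + 1) le_rfl m
    exact ⟨m', hm', fun k hk x _ => LinearMap.congr_fun (ModuleCat.hom_ext_iff.1 (h k _ hk)) x⟩

end Groth.L04.ProZero
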