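import Groth.Agent.L04.Formal.ProZero

/-!
# `H^i_T(M)` as the limit of `H^i_T(M/IⁿM)`

From the pro-vanishing of `H^i_T(IⁿM)` for `i ≤ s + 1`: for `i ≤ s` the map `H^i_T(M) → H^i_T(M/IⁿM)` is
injective for large `n` and its image is the stable image of the system.
-/

set_option autoImplicit false
set_option linter.style.haveILetI false
set_option backward.isDefEq.respectTransparency false
universe u

open CategoryTheory

noncomputable section

namespace Groth.L04.QuotLim

open Groth.L04.ProZero Groth.L04.LC Groth.L04.HTsupp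

variable {A : Type u} [CommRing A] {M : Type u} [AddCommGroup M] [Module A M] {I : Ideal A}
  {T : Set (PrimeSpectrum A)}

variable (T) in
/-- The map induced on `H^i_T`. -/
abbrev HTm (i : ℕ) {N N' : Type u} [AddCommGroup N] [Module A N] [AddCommGroup N'] [Module A N']
    (g : N →ₗ[A] N') : Dual2.HT T i N →ₗ[A] Dual2.HT T i N' :=
  ((localCohomology.ofDiagram.{u, u} (Dual2.idealsInDiagram T) i).map (ModuleCat.ofHom g)).hom

theorem HTm_comp (i : ℕ) {N N' N'' : Type u} [AddCommGroup N] [Module A N] [AddCommGroup N'] [Module A N']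
    [AddCommGroup N''] [Module A N''] (g : N →ₗ[A] N') (h : N' →ₗ[A] N'') (x : Dual2.HT T i N) :
    HTm T i (h.comp g) x = HTm T i h (HTm T i g x) := by
  change ((localCohomology.ofDiagram.{u, u} (Dual2.idealsInDiagram T) i).map
    (ModuleCat.ofHom g ≫ ModuleCat.ofHom h)).hom x = _
  rw [Functor.map_comp]
  rfl

theorem HTm_congr (i : ℕ) {N N' : Type u} [AddCommGroup N] [Module A N] [AddCommGroup N'] [Module A N']
    {f g : N →ₗ[A] N'} (h : f = g) (x : Dual2.HT T i N) : HTm T i f x = HTm T i g x := by rw [h]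

theorem HTm_id (i : ℕ) {N : Type u} [AddCommGroup N] [Module A N] (x : Dual2.HT T i N) :
    HTm T i (LinearMap.id : N →ₗ[A] N) x = x :=
  LinearMap.congr_fun (congrArg ModuleCat.Hom.hom
    ((localCohomology.ofDiagram.{u, u} (Dual2.idealsInDiagram T) i).map_id (ModuleCat.of A N))) x

variable (M I T) in
/-- The transition maps of `(H^i_T(IⁿM))ₙ` are eventually zero. -/
def PZ (i : ℕ) : Prop :=
  ∀ n : ℕ, ∃ m : ℕ, n ≤ m ∧ ∀ (k : ℕ) (h : n ≤ k), m ≤ k → HTm T i (inc M I h) = 0

variable (M I) in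
/-- The short exact sequence of `IᵏM`. -/
theorem ses (k : ℕ) : (ShortComplex.mk (ModuleCat.ofHom (sub M I k).subtype) (ModuleCat.ofHom (sub M I k).mkQ)
    (ModuleCat.hom_ext (LinearMap.ext fun x => (Submodule.Quotient.mk_eq_zero _).2 x.2))).ShortExact :=
  ses_shortExact _ _ (sub M I k).injective_subtype (sub M I k).mkQ_surjective
    (LinearMap.exact_subtype_mkQ _)

theorem exists_subtype_eq_zero {i : ℕ} (h : PZ M I T i) :
    ∃ m : ℕ, ∀ k, m ≤ k → HTm T i (sub M I k).subtype = 0 := by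
  obtain ⟨m, -, hm⟩ := h 0
  refine ⟨m, fun k hk => LinearMap.ext fun x => ?_⟩
  rw [show (sub M I k).subtype = (sub M I 0).subtype.comp (inc M I (Nat.zero_le k)) from rfl, HTm_comp,
    hm k (Nat.zero_le k) hk]
  exact map_zero (HTm T i (sub M I 0).subtype)

theorem exists_injective {i : ℕ} (h : PZ M I T i) :
    ∃ m : ℕ, ∀ k, m ≤ k → Function.Injective (HTm T i (sub M I k).mkQ) := by
  obtain ⟨m, hm⟩ := exists_subtype_eq_zero h
  refine ⟨m, fun k hk => (injective_iff_map_eq_zero _).2 fun x hx => ?_⟩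
  obtain ⟨z, rfl⟩ := (exact₂ A (XT T) (ses M I k) i x).1 hx
  exact LinearMap.congr_fun (hm k hk) z

/-- The stable image is the image of `H^i_T(M)`. -/
theorem exists_range_eq {i : ℕ} (h : PZ M I T (i + 1)) (n : ℕ) : ∃ m : ℕ, n ≤ m ∧
    ∀ (l : ℕ) (hl : n ≤ l), m ≤ l →
      Set.range (HTm T i (Submodule.factorPow I M hl)) = Set.range (HTm T i (sub M I n).mkQ) := by
  obtain ⟨m, hnm, hm⟩ := h n
  refine ⟨m, hnm, fun l hl hml => Set.Subset.antisymm ?_ ?_⟩
  · rintro _ ⟨y, rfl⟩
    refine (exact₃ A (XT T) (ses M I n) i _).1 ?_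
    have hn := δ_naturality A (XT T) (ses M I l) (ses M I n)
      { τ₁ := ModuleCat.ofHom (inc M I hl)
        τ₂ := 𝟙 _
        τ₃ := ModuleCat.ofHom (Submodule.factorPow I M hl)
        comm₁₂ := rfl
        comm₂₃ := rfl } i
    exact (LinearMap.congr_fun hn y).symm.trans (LinearMap.congr_fun (hm l hl hml) _)
  · rintro _ ⟨x, rfl⟩
    refine ⟨HTm T i (sub M I l).mkQ x, ?_⟩
    rw [← HTm_comp]
    exact LinearMap.congr_fun (congrArg (HTm T i) (LinearMap.ext fun _ => rfl)) x

/-- Mittag-Leffler. -/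
theorem isML {i : ℕ} (h : PZ M I T (i + 1)) (n : ℕ) : ∃ (k : ℕ) (hk : n ≤ k), ∀ (l : ℕ) (hl : k ≤ l),
    Set.range (HTm T i (Submodule.factorPow I M (hk.trans hl : n ≤ l))) =
      Set.range (HTm T i (Submodule.factorPow I M hk)) := by
  obtain ⟨m, hnm, hm⟩ := exists_range_eq h n
  exact ⟨m, hnm, fun l hl => (hm l _ hl).trans (hm m hnm le_rfl).symm⟩

variable (M I) in
theorem factorPow_comp_trans {n l : ℕ} (h : n ≤ l) :
    (Submodule.factorPow I M (Nat.succ_le_succ h : n + 1 ≤ l + 1)).comp (Formal2.quotPowTrans A I M l) =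
      Submodule.factorPow I M (Nat.succ_le_succ (h.trans l.le_succ) : n + 1 ≤ l + 1 + 1) := by
  refine LinearMap.ext fun y => ?_
  obtain ⟨x, rfl⟩ := Submodule.mkQ_surjective _ y
  simp [Formal2.quotPowTrans, Submodule.factor]

theorem eq_factor_of_compat {i : ℕ} (y : ∀ n : ℕ, Dual2.HT T i (Formal2.quotPow A I M n))
    (hy : ∀ n : ℕ, HTm T i (Formal2.quotPowTrans A I M n) (y (n + 1)) = y n) {n l : ℕ} (h : n ≤ l) :
    HTm T i (Submodule.factorPow I M (Nat.succ_le_succ h : n + 1 ≤ l + 1)) (y l) = y n := by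
  induction l, h using Nat.le_induction with
  | base =>
    refine (HTm_congr (g := LinearMap.id) i ?_ _).trans (HTm_id i _)
    exact Submodule.linearMap_qext _ rfl
  | succ l hl ih =>
    refine Eq.trans ?_ ih
    rw [← hy l, ← HTm_comp]
    exact HTm_congr i (factorPow_comp_trans M I hl).symm _

/-- The limit. -/
theorem bijective {i : ℕ} (h₀ : PZ M I T i) (h₁ : PZ M I T (i + 1)) :
    (∀ x : Dual2.HT T i M, (∀ n : ℕ, HTm T i (Formal2.quotPowπ A I M n) x = 0) → x = 0) ∧
    (∀ y : ∀ n : ℕ, Dual2.HT T i (Formal2.quotPow A I M n),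
      (∀ n : ℕ, HTm T i (Formal2.quotPowTrans A I M n) (y (n + 1)) = y n) →
      ∃ x : Dual2.HT T i M, ∀ n : ℕ, HTm T i (Formal2.quotPowπ A I M n) x = y n) := by
  obtain ⟨m, hm⟩ := exists_injective h₀
  have hinj := hm (m + 1) m.le_succ
  refine ⟨fun x hx => hinj ((hx m).trans (map_zero _).symm), fun y hy => ?_⟩
  have hlift : ∀ n, ∃ x, HTm T i (Formal2.quotPowπ A I M n) x = y n := by
    intro n
    obtain ⟨m', hnm', hm'⟩ := exists_range_eq h₁ (n + 1)
    obtain ⟨l, rfl⟩ := Nat.exists_eq_add_of_le hnm'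
    have hr := hm' (n + l + 1) (by omega) (by omega)
    exact (Set.ext_iff.1 hr (y n)).1 ⟨y (n + l), eq_factor_of_compat y hy (Nat.le_add_right n l)⟩
  choose x hx using hlift
  have htrans : ∀ {a b : ℕ} (h : a ≤ b) (z : Dual2.HT T i M),
      HTm T i (Submodule.factorPow I M (Nat.succ_le_succ h : a + 1 ≤ b + 1))
        (HTm T i (Formal2.quotPowπ A I M b) z) = HTm T i (Formal2.quotPowπ A I M a) z := by
    intro a b h z
    rw [← HTm_comp]
    exact LinearMap.congr_fun (congrArg (HTm T i) (LinearMap.ext fun _ => rfl)) z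
  refine ⟨x m, fun n => ?_⟩
  have hxe : x (max n m) = x m := hinj (by
    refine Eq.trans ?_ (hx m).symm
    refine (htrans (le_max_right n m) _).symm.trans ?_
    rw [hx, eq_factor_of_compat y hy (le_max_right n m)])
  rw [← hxe, ← htrans (le_max_left n m), hx, eq_factor_of_compat y hy (le_max_left n m)]

/-- A power of `I` kills `H^i_T(M)`. -/
theorem exists_pow_smul_eq_zero {i : ℕ} (h₀ : PZ M I T i) :
    ∃ n : ℕ, ∀ a ∈ I ^ n, ∀ x : Dual2.HT T i M, a • x = 0 := by
  obtain ⟨m, hm⟩ := exists_subtype_eq_zero h₀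
  refine ⟨m, fun a ha x => ?_⟩
  have h := map_smul_id T i (ModuleCat.of A M) a x
  let g : M →ₗ[A] ↥(sub M I m) :=
    (a • LinearMap.id : M →ₗ[A] M).codRestrict _ fun _ => Submodule.smul_mem_smul ha Submodule.mem_top
  have hg : a • 𝟙 (ModuleCat.of A M) = ModuleCat.ofHom ((sub M I m).subtype.comp g) := by
    refine ModuleCat.hom_ext (LinearMap.ext fun _ => rfl)
  rw [hg] at h
  exact h.symm.trans ((HTm_comp i g (sub M I m).subtype x).trans (LinearMap.congr_fun (hm m le_rfl) _))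

/-- From the hypotheses. -/
theorem pz_of_hyp [IsNoetherianRing A] [Module.Finite A M] {ω : Dual.D A} {hω : Dual.IsDualizing A ω} {d s : ℕ}
    (H : Hyp M hω (I := I) d s T) (i : ℕ) (hi : i ≤ s + 1) : PZ M I T i := fun n => by
  obtain ⟨m, hm, h⟩ := proZero H i hi n
  exact ⟨m, hm, fun k hk hmk => congrArg ModuleCat.Hom.hom (h k hk hmk)⟩

end Groth.L04.QuotLim
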